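import Cfsg.Agent.Lib.WeakJ1.Kernel
import Mathlib.GroupTheory.QuotientGroup.Basic

/-!
The part of the centraliser common to all conjugates of `t` in `E0`.
-/

set_option autoImplicit false
set_option linter.style.haveILetI false
set_option linter.unusedSectionVars false

namespace Cfsg.Agent.WeakJ1

open CentAlt

variable {G : Type*} [Group G] [Finite G]

namespace Data

variable {t : G} {ψ : A5' →* G}

theorem psi_k3_mem (h : Data t ψ) : ψ k3 ∈ h.C ⊓ h.N := by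
  refine ⟨h.psi_mem_C _, h.mem_N.2 fun x hx => ?_⟩
  obtain ⟨v, hv, rfl | rfl⟩ := hx
  · exact ⟨_, (k3_cases v hv).1, Or.inl (by simp only [map_mul, map_inv])⟩
  · refine ⟨_, (k3_cases v hv).1, Or.inr ?_⟩
    rw [map_mul, map_mul, map_inv, ← mul_assoc (ψ k3) t, h.comm k3]; group

theorem conj_K (h : Data t ψ) {c k : G} (hc : c ∈ h.C) (hk : k ∈ h.K) : c * k * c⁻¹ ∈ h.K := by
  refine h.mem_K.2 ⟨h.mem_C.1 (mul_mem (mul_mem hc (h.mem_C.2 (h.mem_K.1 hk).1)) (inv_mem hc)), fun a => ?_⟩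
  obtain ⟨b, hb⟩ := h.conj_psi (inv_mem hc) a
  rw [inv_inv] at hb
  calc c * k * c⁻¹ * ψ a = c * (k * (c⁻¹ * ψ a * c)) * c⁻¹ := by group
    _ = c * (c⁻¹ * ψ a * c * k) * c⁻¹ := by rw [hb, (h.mem_K.1 hk).2 b]
    _ = ψ a * (c * k * c⁻¹) := by group

/-- The common part. -/
def X (h : Data t ψ) : Subgroup G where
  carrier := {x | ∀ n ∈ h.N, n * x * n⁻¹ ∈ h.K}
  one_mem' := fun n _ => by simp
  mul_mem' := fun {a b} ha hb n hn => by rw [← conj_mul]; exact mul_mem (ha n hn) (hb n hn)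
  inv_mem' := fun {a} ha n hn => by rw [← conj_inv]; exact inv_mem (ha n hn)

theorem X_le_K (h : Data t ψ) : h.X ≤ h.K := fun x hx => by simpa using hx 1 (one_mem _)

theorem X_conj_N (h : Data t ψ) {n x : G} (hn : n ∈ h.N) (hx : x ∈ h.X) : n * x * n⁻¹ ∈ h.X := fun m hm => by
  have := hx _ (mul_mem hm hn)
  rwa [show m * (n * x * n⁻¹) * m⁻¹ = m * n * x * (m * n)⁻¹ by group]

theorem X_comm_psi (h : Data t ψ) {x : G} (hx : x ∈ h.X) (a : A5') : x * ψ a = ψ a * x :=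
  (h.mem_K.1 (h.X_le_K hx)).2 a

theorem t_notMem_X (h : Data t ψ) : t ∉ h.X := fun ht => by
  obtain ⟨f1, -, -, n1, -⟩ := v_facts
  obtain ⟨g, hg, e⟩ := h.exists_move (h.isD_all v1 f1 n1).1 (h.psi_mem_E0 (Or.inr (Or.inl rfl)))
  exact n1 (h.K_inf (e ▸ ht g hg))

theorem inf_X (h : Data t ψ) {e : G} (he : e ∈ h.E0) (hX : e ∈ h.X) : e = 1 := by
  by_contra h1
  obtain ⟨g, hg, hge⟩ := h.exists_move (h.isD_E0 he h1) he
  apply h.t_notMem_X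
  have := h.X_conj_N (inv_mem hg) hX
  rw [← hge] at this
  rwa [show g⁻¹ * (g * t * g⁻¹) * g⁻¹⁻¹ = t by group] at this

theorem M_comm_mem_X (h : Data t ψ) {a b : G} (ha : a ∈ h.M) (hb : b ∈ h.M) : a * b * (b * a)⁻¹ ∈ h.X := by
  intro n hn
  have hconj : ∀ {m : G}, m ∈ h.M → n * m * n⁻¹ ∈ h.M := fun {m} hm =>
    CoprimeConj hn hm
  obtain ⟨u, hu, k, hk, e1⟩ := h.M_split (hconj ha)
  obtain ⟨v, hv, l, hl, e2⟩ := h.M_split (hconj hb)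
  have huv : u * v = v * u := h.inj (by
    rw [map_mul, map_mul]; exact h.E0_comm (h.psi_mem_E0 hu) (h.psi_mem_E0 hv))
  have e : n * (a * b * (b * a)⁻¹) * n⁻¹ = (n * a * n⁻¹) * (n * b * n⁻¹) * ((n * b * n⁻¹) * (n * a * n⁻¹))⁻¹ := by
    group
  rw [e, e1, e2]
  have k1 : ψ u * k * (ψ v * l) = ψ (u * v) * (k * l) := by
    rw [mul_assoc (ψ u) k, ← mul_assoc k (ψ v), (h.mem_K.1 hk).2 v, map_mul]; group
  have k2 : ψ v * l * (ψ u * k) = ψ (u * v) * (l * k) := by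
    rw [mul_assoc (ψ v) l, ← mul_assoc l (ψ u), (h.mem_K.1 hl).2 u, huv, map_mul]; group
  rw [k1, k2, show ψ (u * v) * (k * l) * (ψ (u * v) * (l * k))⁻¹ =
    ψ (u * v) * (k * l * (l * k)⁻¹) * (ψ (u * v))⁻¹ by group]
  exact h.conj_K (h.psi_mem_C _) (mul_mem (mul_mem hk hl) (inv_mem (mul_mem hl hk)))
where
  CoprimeConj {h : Data t ψ} {n m : G} (hn : n ∈ h.N) (hm : m ∈ h.M) : n * m * n⁻¹ ∈ h.M := h.mem_M.2 fun x hx => by
    have hx' : n⁻¹ * x * n ∈ h.E0 := by simpa using h.mem_N.1 (inv_mem hn) x hx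
    calc n * m * n⁻¹ * x * (n * m * n⁻¹)⁻¹ = n * (m * (n⁻¹ * x * n) * m⁻¹) * n⁻¹ := by group
      _ = x := by rw [h.mem_M.1 hm _ hx']; group

theorem M_conj (h : Data t ψ) {n m : G} (hn : n ∈ h.N) (hm : m ∈ h.M) : n * m * n⁻¹ ∈ h.M :=
  M_comm_mem_X.CoprimeConj hn hm

theorem M_sq_mem_X (h : Data t ψ) {a : G} (ha : a ∈ h.M) : a * a ∈ h.X := by
  intro n hn
  obtain ⟨u, hu, k, hk, e1⟩ := h.M_split (h.M_conj hn ha)
  rw [show n * (a * a) * n⁻¹ = (n * a * n⁻¹) * (n * a * n⁻¹) by group, e1,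
    mul_assoc (ψ u) k, ← mul_assoc k (ψ u), (h.mem_K.1 hk).2 u,
    show ψ u * (ψ u * k * k) = ψ u * ψ u * (k * k) by group, ← map_mul, inV_sq u hu, map_one, one_mul]
  exact mul_mem hk hk

/-- `E0 X`. -/
def Y (h : Data t ψ) : Subgroup G where
  carrier := {m | m ∈ h.M ∧ ∃ e ∈ h.E0, e * m ∈ h.X}
  one_mem' := ⟨one_mem _, 1, one_mem _, by simp⟩
  mul_mem' := by
    rintro a b ⟨ha, e, he, hea⟩ ⟨hb, f, hf, hfb⟩
    refine ⟨mul_mem ha hb, e * f, mul_mem he hf, ?_⟩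
    have hfa : a * f = f * a := mul_inv_eq_iff_eq_mul.1 (h.mem_M.1 ha f hf)
    rw [show e * f * (a * b) = e * (f * a) * b by group, ← hfa, show e * (a * f) * b = e * a * (f * b) by group]
    exact mul_mem hea hfb
  inv_mem' := by
    rintro a ⟨ha, e, he, hea⟩
    refine ⟨inv_mem ha, e⁻¹, inv_mem he, ?_⟩
    have hea' : a * e = e * a := mul_inv_eq_iff_eq_mul.1 (h.mem_M.1 ha e he)
    rw [show e⁻¹ * a⁻¹ = (a * e)⁻¹ by group, hea']
    exact inv_mem hea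

theorem E0_le_M (h : Data t ψ) : h.E0 ≤ h.M := fun e he => h.mem_M.2 fun x hx => by
  rw [h.E0_comm he hx]; group

theorem X_le_M (h : Data t ψ) : h.X ≤ h.M := h.X_le_K.trans h.K_le_M

theorem X_mem_Y (h : Data t ψ) {x : G} (hx : x ∈ h.X) : x ∈ h.Y :=
  ⟨h.X_le_M hx, 1, one_mem _, by rwa [one_mul]⟩

theorem E0_mem_Y (h : Data t ψ) {x : G} (hx : x ∈ h.E0) : x ∈ h.Y :=
  ⟨h.E0_le_M hx, x⁻¹, inv_mem hx, by simp⟩

theorem Y_conj (h : Data t ψ) {n y : G} (hn : n ∈ h.N) (hy : y ∈ h.Y) : n * y * n⁻¹ ∈ h.Y := by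
  obtain ⟨hyM, e, he, hey⟩ := hy
  refine ⟨h.M_conj hn hyM, n * e * n⁻¹, h.mem_N.1 hn e he, ?_⟩
  rw [conj_mul]
  exact h.X_conj_N hn hey

/-- The elements acting trivially on `M` modulo `Y`. -/
def A (h : Data t ψ) : Subgroup G where
  carrier := {n | n ∈ h.N ∧ ∀ m ∈ h.M, m⁻¹ * (n * m * n⁻¹) ∈ h.Y}
  one_mem' := ⟨one_mem _, fun m _ => by simp⟩
  mul_mem' := by
    rintro a b ⟨ha, ha'⟩ ⟨hb, hb'⟩
    refine ⟨mul_mem ha hb, fun m hm => ?_⟩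
    rw [show m⁻¹ * (a * b * m * (a * b)⁻¹) =
      m⁻¹ * (b * m * b⁻¹) * ((b * m * b⁻¹)⁻¹ * (a * (b * m * b⁻¹) * a⁻¹)) by group]
    exact mul_mem (hb' m hm) (ha' _ (h.M_conj hb hm))
  inv_mem' := by
    rintro a ⟨ha, ha'⟩
    refine ⟨inv_mem ha, fun m hm => ?_⟩
    have := inv_mem (ha' _ (h.M_conj (inv_mem ha) hm))
    rwa [show ((a⁻¹ * m * a⁻¹⁻¹)⁻¹ * (a * (a⁻¹ * m * a⁻¹⁻¹) * a⁻¹))⁻¹ = m⁻¹ * (a⁻¹ * m * a⁻¹⁻¹) by group] at this

theorem NC_le_A (h : Data t ψ) : h.C ⊓ h.N ≤ h.A := by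
  have hM : h.M ≤ h.A := fun n hn => ⟨h.M_le_N hn, fun m hm => h.X_mem_Y (by
    have := h.M_comm_mem_X (inv_mem hm) hn
    have h2 := h.M_comm_mem_X (mul_mem (inv_mem hm) hn) hm
    have h3 : m⁻¹ * (n * m * n⁻¹) = m⁻¹ * n * (n * m⁻¹)⁻¹ := by group
    rw [h3]
    exact this)⟩
  have hk : ψ k3 ∈ h.A := ⟨h.psi_k3_mem.2, fun m hm => h.E0_mem_Y (by
    obtain ⟨v, hv, k, hk, rfl⟩ := h.M_split hm
    refine ⟨v⁻¹ * (k3 * v * k3⁻¹), inV_mul _ _ ?_ (k3_cases v hv).1, Or.inl ?_⟩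
    · rwa [inv_eq_of_mul_eq_one_right (inV_sq v hv)]
    · have e : ψ k3 * k * (ψ k3)⁻¹ = k := mul_inv_eq_iff_eq_mul.2 ((h.mem_K.1 hk).2 k3).symm
      have e2 : ψ (v⁻¹ * (k3 * v * k3⁻¹)) * k = k * ψ (v⁻¹ * (k3 * v * k3⁻¹)) := ((h.mem_K.1 hk).2 _).symm
      rw [show (ψ v * k)⁻¹ * (ψ k3 * (ψ v * k) * (ψ k3)⁻¹) =
        k⁻¹ * ((ψ v)⁻¹ * (ψ k3 * ψ v * (ψ k3)⁻¹)) * (ψ k3 * k * (ψ k3)⁻¹) by group, e]
      simp only [map_mul, map_inv] at e2 ⊢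
      rw [mul_assoc, e2]; group)⟩
  intro c hc
  rcases h.stab_cases hc with hm | hm | hm
  · exact hM hm
  · exact (h.A.mul_mem_cancel_left hk).1 (hM hm)
  · exact (h.A.mul_mem_cancel_left (by rw [map_inv]; exact inv_mem hk)).1 (hM hm)

theorem N_le_A (h : Data t ψ) : h.N ≤ h.A := by
  obtain ⟨f1, -, -, n1, -⟩ := v_facts
  obtain ⟨g, hg, hge⟩ := h.exists_move (h.isD_all v1 f1 n1).1 (h.psi_mem_E0 (Or.inr (Or.inl rfl)))
  have hAN : h.A ≤ h.N := fun a ha => ha.1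
  have hk := h.NC_le_A h.psi_k3_mem
  have hA' : g⁻¹ * ψ k3 * g ∈ h.A := by
    refine ⟨mul_mem (mul_mem (inv_mem hg) hk.1) hg, fun m hm => ?_⟩
    have := h.Y_conj (inv_mem hg) (hk.2 _ (h.M_conj hg hm))
    rwa [show g⁻¹ * ((g * m * g⁻¹)⁻¹ * (ψ k3 * (g * m * g⁻¹) * (ψ k3)⁻¹)) * g⁻¹⁻¹ =
      m⁻¹ * (g⁻¹ * ψ k3 * g * m * (g⁻¹ * ψ k3 * g)⁻¹) by group] at this
  have hnot : g⁻¹ * ψ k3 * g ∉ h.C ⊓ h.N := fun hc => by
    have e := mul_inv_eq_iff_eq_mul.2 (h.mem_C.1 hc.1)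
    apply k3_facts.2.1
    apply h.inj
    rw [map_mul, map_mul, map_inv, ← hge]
    calc ψ k3 * (g * t * g⁻¹) * (ψ k3)⁻¹ = g * (g⁻¹ * ψ k3 * g * t * (g⁻¹ * ψ k3 * g)⁻¹) * g⁻¹ := by group
      _ = g * t * g⁻¹ := by rw [e]
  have hmul := Subgroup.relIndex_mul_relIndex (h.C ⊓ h.N) h.A h.N h.NC_le_A hAN
  have h7 : (h.C ⊓ h.N).relIndex h.N = 7 := h.orbit_seven
  rw [h7] at hmul
  rcases (Nat.dvd_prime (by norm_num)).1 (Dvd.intro_left _ hmul) with e | e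
  · exact Subgroup.relIndex_eq_one.1 e
  · exfalso
    rw [e] at hmul
    exact hnot (Subgroup.relIndex_eq_one.1 (by omega : (h.C ⊓ h.N).relIndex h.A = 1) hA')

theorem odd_NM (h : Data t ψ) : Odd (h.M.relIndex h.N) := by
  haveI : Fact (Nat.Prime 2) := ⟨Nat.prime_two⟩
  have h7 : (h.C ⊓ h.N).relIndex h.N = 7 := h.orbit_seven
  rw [← Subgroup.relIndex_mul_relIndex h.M (h.C ⊓ h.N) h.N (le_inf h.M_le_C h.M_le_N) inf_le_right, h7]
  refine Odd.mul ?_ (by decide)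
  rw [← Nat.not_even_iff_odd, even_iff_two_dvd]
  intro h2
  set MS := h.M.subgroupOf (h.C ⊓ h.N) with hMS
  haveI : MS.Normal := ⟨fun m hm c => by
    rw [hMS, Subgroup.mem_subgroupOf] at hm ⊢
    push_cast
    exact h.M_conj c.2.2 hm⟩
  obtain ⟨q, hq⟩ := exists_prime_orderOf_dvd_card' (G := ↥(h.C ⊓ h.N) ⧸ MS) 2 h2
  obtain ⟨c, rfl⟩ := QuotientGroup.mk'_surjective MS q
  have hk3 : (QuotientGroup.mk' MS ⟨ψ k3, h.psi_k3_mem⟩) ^ 3 = 1 := by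
    rw [← map_pow, ← map_one (QuotientGroup.mk' MS)]
    congr 1
    refine Subtype.ext ?_
    push_cast
    rw [← map_pow, show k3 ^ 3 = 1 by rw [pow_succ, pow_two]; exact k3_facts.1, map_one]
  have hone : ∀ x : ↥(h.C ⊓ h.N), (x : G) ∈ h.M → QuotientGroup.mk' MS x = 1 := fun x hx =>
    (QuotientGroup.eq_one_iff x).2 hx
  have h3 : (QuotientGroup.mk' MS c) ^ 3 = 1 := by
    rcases h.stab_cases c.2 with hm | hm | hm
    · rw [hone c hm, one_pow]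
    · have e := hone (⟨ψ k3, h.psi_k3_mem⟩ * c) hm
      rw [map_mul] at e
      rw [eq_inv_of_mul_eq_one_right e, inv_pow, hk3, inv_one]
    · have e := hone ((⟨ψ k3, h.psi_k3_mem⟩)⁻¹ * c) (by push_cast; rwa [← map_inv])
      rw [map_mul, map_inv, inv_mul_eq_one] at e
      rw [← e, hk3]
  have := orderOf_dvd_of_pow_eq_one h3
  rw [hq] at this
  omega

/-- `M = E0 X`. -/
theorem M_le_Y (h : Data t ψ) {m : G} (hm : m ∈ h.M) : m ∈ h.Y := by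
  classical
  set MN := h.M.subgroupOf h.N with hMN
  haveI : MN.Normal := Subgroup.normal_subgroupOf_centralizer_normalizer _
  set Xs := h.X.subgroupOf h.M with hXs
  haveI : Xs.Normal := ⟨fun x hx a => h.X_conj_N (h.M_le_N a.2) hx⟩
  set Ys := h.Y.subgroupOf h.M with hYs
  haveI : Ys.Normal := ⟨fun x hx a => h.Y_conj (h.M_le_N a.2) hx⟩
  have hXY : Xs ≤ Ys := fun x hx => h.X_mem_Y hx
  have hcomm : ∀ a b : h.M ⧸ Xs, a * b = b * a := by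
    intro a b
    obtain ⟨a, rfl⟩ := QuotientGroup.mk'_surjective Xs a
    obtain ⟨b, rfl⟩ := QuotientGroup.mk'_surjective Xs b
    rw [← map_mul, ← map_mul, ← mul_inv_eq_one, ← map_inv, ← map_mul, QuotientGroup.mk'_apply,
      QuotientGroup.eq_one_iff]
    exact h.M_comm_mem_X a.2 b.2
  letI : CommGroup (h.M ⧸ Xs) := { (inferInstance : Group (h.M ⧸ Xs)) with mul_comm := hcomm }
  letI : CommGroup (h.M ⧸ Ys) := { (inferInstance : Group (h.M ⧸ Ys)) with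
    mul_comm := fun a b => by
      obtain ⟨a, rfl⟩ := QuotientGroup.mk'_surjective Ys a
      obtain ⟨b, rfl⟩ := QuotientGroup.mk'_surjective Ys b
      rw [← map_mul, ← map_mul, ← mul_inv_eq_one, ← map_inv, ← map_mul, QuotientGroup.mk'_apply,
        QuotientGroup.eq_one_iff]
      exact h.X_mem_Y (h.M_comm_mem_X a.2 b.2) }
  let cn : h.N → h.M →* h.M := fun n => MonoidHom.mk' (fun a => ⟨n * a * (n : G)⁻¹, h.M_conj n.2 a.2⟩)
    (fun a b => Subtype.ext (by simp only [Subgroup.coe_mul]; group))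
  let χ := QuotientGroup.mk' Xs
  obtain ⟨ρ, hρd⟩ : ∃ ρ : h.N → h.M ⧸ Xs, ∀ n, ρ n = χ (cn n ⟨m, hm⟩) := ⟨_, fun _ => rfl⟩
  have hρ : ∀ a z : h.N, z ∈ MN → ρ (a * z) = ρ a := by
    intro a z hz
    rw [hρd, hρd, ← mul_inv_eq_one, ← map_inv, ← map_mul]
    refine (QuotientGroup.eq_one_iff _).2 ?_
    show ((a * z : h.N) : G) * m * ((a * z : h.N) : G)⁻¹ * ((a : G) * m * (a : G)⁻¹)⁻¹ ∈ h.X
    push_cast
    rw [show (a : G) * z * m * ((a : G) * z)⁻¹ * ((a : G) * m * (a : G)⁻¹)⁻¹ =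
      (a : G) * ((z : G) * m * (m * z)⁻¹) * (a : G)⁻¹ by group]
    exact h.X_conj_N a.2 (h.M_comm_mem_X hz hm)
  haveI : Fintype (h.N ⧸ MN) := Fintype.ofFinite _
  obtain ⟨u0, hu0⟩ := QuotientGroup.mk'_surjective Xs (∏ q : h.N ⧸ MN, ρ q.out)
  have hfix : ∀ n : h.N, χ (cn n u0) = χ u0 := by
    intro n
    let φ := QuotientGroup.map Xs Xs (cn n) (fun x hx => h.X_conj_N n.2 hx)
    have hφ : ∀ a, φ (χ a) = χ (cn n a) := fun a => rfl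
    rw [← hφ, hu0, map_prod]
    refine Fintype.prod_equiv (Equiv.mulLeft (QuotientGroup.mk' MN n)) _ _ fun q => ?_
    rw [hρd, hφ]
    show χ (cn n (cn q.out ⟨m, hm⟩)) = ρ (QuotientGroup.mk' MN n * q).out
    obtain ⟨z, hz, hz'⟩ := (QuotientGroup.mk'_eq_mk' MN).1
      (show QuotientGroup.mk' MN (n * q.out) = QuotientGroup.mk' MN (QuotientGroup.mk' MN n * q).out by
        rw [map_mul, QuotientGroup.mk'_apply, QuotientGroup.mk'_apply, QuotientGroup.mk'_apply,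
          QuotientGroup.out_eq', QuotientGroup.out_eq'])
    rw [← hz', hρ _ z hz, hρd]
    refine congrArg χ (Subtype.ext ?_)
    show (n : G) * ((q.out : G) * m * (q.out : G)⁻¹) * (n : G)⁻¹ = (n : G) * q.out * m * ((n : G) * q.out)⁻¹
    group
  have hfix' : ∀ n ∈ h.N, n * u0 * n⁻¹ * (u0 : G)⁻¹ ∈ h.X := fun n hn => by
    have := hfix ⟨n, hn⟩
    rw [← mul_inv_eq_one, ← map_inv, ← map_mul] at this
    have hmem : cn ⟨n, hn⟩ u0 * u0⁻¹ ∈ Xs := (QuotientGroup.eq_one_iff _).1 this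
    exact hmem
  have huX : (u0 : G) ∈ h.X := by
    obtain ⟨v, hv, k, hk, hvk⟩ := h.M_split u0.2
    have e := hfix' _ h.psi_k3_mem.2
    have ek : ψ k3 * k * (ψ k3)⁻¹ = k := mul_inv_eq_iff_eq_mul.2 ((h.mem_K.1 hk).2 k3).symm
    rw [hvk, show ψ k3 * (ψ v * k) * (ψ k3)⁻¹ * (ψ v * k)⁻¹ =
      ψ k3 * ψ v * (ψ k3)⁻¹ * (ψ k3 * k * (ψ k3)⁻¹) * k⁻¹ * (ψ v)⁻¹ by group, ek, mul_inv_cancel_right,
      ← map_inv, ← map_mul, ← map_inv, ← map_mul, ← map_mul] at e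
    have hv1 : v = 1 := k3_fix v hv (h.K_inf (h.X_le_K e))
    rw [hv1, map_one, one_mul] at hvk
    intro n hn
    have e2 := mul_mem (h.X_le_K (hfix' n hn)) hk
    rw [hvk, inv_mul_cancel_right] at e2
    rwa [hvk]
  let η : h.M ⧸ Xs →* h.M ⧸ Ys := QuotientGroup.map Xs Ys (MonoidHom.id _) hXY
  have hηq : ∀ a, η (χ a) = QuotientGroup.mk' Ys a := fun a => rfl
  have hηρ : ∀ n, η (ρ n) = QuotientGroup.mk' Ys ⟨m, hm⟩ := by
    intro n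
    rw [hρd, hηq, QuotientGroup.mk'_eq_mk']
    refine ⟨(cn n ⟨m, hm⟩)⁻¹ * ⟨m, hm⟩, ?_, by group⟩
    have e := inv_mem ((h.N_le_A n.2).2 m hm)
    show ((n : G) * m * (n : G)⁻¹)⁻¹ * m ∈ h.Y
    rwa [mul_inv_rev, inv_inv] at e
  have hpow : (QuotientGroup.mk' Ys ⟨m, hm⟩) ^ Nat.card (h.N ⧸ MN) = 1 := by
    have e0 : η (∏ q : h.N ⧸ MN, ρ q.out) = QuotientGroup.mk' Ys u0 := by rw [← hu0, hηq]
    rw [map_prod, Finset.prod_congr rfl (fun q _ => hηρ q.out), Finset.prod_const, Finset.card_univ,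
      ← Nat.card_eq_fintype_card] at e0
    rw [e0, QuotientGroup.mk'_apply, QuotientGroup.eq_one_iff]
    exact h.X_mem_Y huX
  have hsq : (QuotientGroup.mk' Ys ⟨m, hm⟩) ^ 2 = 1 := by
    rw [← map_pow, QuotientGroup.mk'_apply, QuotientGroup.eq_one_iff, hYs, Subgroup.mem_subgroupOf]
    push_cast
    rw [pow_two]
    exact h.X_mem_Y (h.M_sq_mem_X hm)
  obtain ⟨j, hj⟩ : Odd (Nat.card (h.N ⧸ MN)) := by
    rw [← Subgroup.index_eq_card]; exact h.odd_NM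
  rw [hj, pow_succ, pow_mul, hsq, one_pow, one_mul, QuotientGroup.mk'_apply, QuotientGroup.eq_one_iff] at hpow
  exact hpow

/-- `K = ⟨t⟩ X`. -/
theorem K_split (h : Data t ψ) {k : G} (hk : k ∈ h.K) : k ∈ h.X ∨ t * k ∈ h.X := by
  obtain ⟨-, e, he, hek⟩ := h.M_le_Y (h.K_le_M hk)
  have heK : e ∈ h.K := (h.K.mul_mem_cancel_right hk).1 (h.X_le_K hek)
  obtain ⟨v, hv, rfl | rfl⟩ := he
  · left
    rwa [h.K_inf heK, map_one, one_mul] at hek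
  · right
    have htK : t ∈ h.K := h.mem_K.2 ⟨rfl, fun a => (h.comm a).symm⟩
    rwa [h.K_inf ((h.K.mul_mem_cancel_left htK).1 heK), map_one, mul_one] at hek

/-- `C = W X`. -/
theorem C_eq (h : Data t ψ) {c : G} (hc : c ∈ h.C) : ∃ w ∈ weak t, ∃ x ∈ h.X, c = w * x := by
  obtain ⟨a, k, hk, rfl⟩ := h.C_split hc
  rcases h.K_split hk with hx | hx
  · exact ⟨ψ a, h.psi_mem a, k, hx, rfl⟩
  · exact ⟨ψ a * t, by rw [h.comm a]; exact h.tpsi_mem a, t * k, hx,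
      by rw [show ψ a * t * (t * k) = ψ a * (t * t) * k by group, h.t_sq, mul_one]⟩

theorem X_conj_C (h : Data t ψ) {c x : G} (hc : c ∈ h.C) (hx : x ∈ h.X) : c * x * c⁻¹ ∈ h.X := by
  obtain ⟨a, k, hk, rfl⟩ := h.C_split hc
  have e := h.X_conj_N (h.M_le_N (h.K_le_M hk)) hx
  rw [show ψ a * k * x * (ψ a * k)⁻¹ = ψ a * (k * x * k⁻¹) * (ψ a)⁻¹ by group,
    ← h.X_comm_psi e a, mul_inv_cancel_right]
  exact e

theorem weak_inf_X (h : Data t ψ) {w : G} (hw : w ∈ weak t) (hX : w ∈ h.X) : w = 1 := by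
  obtain ⟨a, rfl | rfl⟩ := (h.mem w).1 hw
  · rw [h.K_inf (h.X_le_K hX), map_one]
  · have htK : t ∈ h.K := h.mem_K.2 ⟨rfl, fun a => (h.comm a).symm⟩
    have := h.K_inf ((h.K.mul_mem_cancel_left htK).1 (h.X_le_K hX))
    rw [this, map_one, mul_one] at hX ⊢
    exact absurd hX h.t_notMem_X

end Data

end Cfsg.Agent.WeakJ1
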