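import Cfsg.Agent.Lib.J1.Simple
import Mathlib.GroupTheory.SpecificGroups.ZGroup

/-!
Subgroups of odd order of the first Janko group are small.
-/

set_option autoImplicit false

namespace Cfsg.Agent.WeakJ1

universe u

theorem cyclic_card_le {Q : Type*} [Group Q] [Finite Q] [IsCyclic Q] (hb : ∀ q : Q, orderOf q ≤ 19) :
    Nat.card Q ≤ 19 := by
  obtain ⟨g, hg⟩ := IsCyclic.exists_ofOrder_eq_natCard (α := Q)
  exact hg ▸ hb g

theorem odd_exps : ∀ k ∈ Cfsg.Agent.J1Cert.exps, ∀ d ∈ k.divisors, Odd d → d ≤ 19 := by decide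

theorem two_exps : ∀ k ∈ Cfsg.Agent.J1Cert.exps, ¬ 4 ∣ k := by decide

/-- A subgroup of odd order of a group isomorphic to `J₁` has order at most 361. -/
theorem odd_card_le {L : Type u} [Group L] [Finite L] (e : L ≃* Cfsg.Spor.J1) (R : Subgroup L)
    (hR : Odd (Nat.card R)) : Nat.card R ≤ 361 := by
  have hcard : Nat.card L = 175560 := by rw [Nat.card_congr e.toEquiv, Cfsg.Agent.J1.card_J1]
  have hdvd : Nat.card R ∣ 21945 := by
    have h := Subgroup.card_subgroup_dvd_card R
    rw [hcard, show 175560 = 2 ^ 3 * 21945 by norm_num] at h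
    exact ((Nat.coprime_two_right.2 hR).pow_right 3).dvd_of_dvd_mul_left h
  have hsf : Squarefree (Nat.card R) := Squarefree.squarefree_of_dvd hdvd (by
    rw [show 21945 = 3 * (5 * (7 * (11 * 19))) by norm_num, Nat.squarefree_mul (by norm_num),
      Nat.squarefree_mul (by norm_num), Nat.squarefree_mul (by norm_num), Nat.squarefree_mul (by norm_num)]
    exact ⟨Nat.prime_three.squarefree, Nat.prime_five.squarefree, (by norm_num : Nat.Prime 7).squarefree,
      (by norm_num : Nat.Prime 11).squarefree, (by norm_num : Nat.Prime 19).squarefree⟩)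
  haveI := IsZGroup.of_squarefree hsf
  have hb : ∀ r : R, orderOf r ≤ 19 := by
    intro r
    obtain ⟨k, hk, hdk⟩ := Cfsg.Agent.J1.orderOf_dvd_exps (e r)
    rw [MulEquiv.orderOf_eq, Subgroup.orderOf_coe] at hdk
    exact odd_exps k hk _ (Nat.mem_divisors.2 ⟨hdk, by rintro rfl; revert hk; decide⟩)
      (Odd.of_dvd_nat hR (orderOf_dvd_natCard r))
  haveI := IsZGroup.isCyclic_commutator R
  have h1 : Nat.card (commutator R) ≤ 19 := cyclic_card_le fun q => by
    rw [← Subgroup.orderOf_coe]; exact hb _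
  have h2 : Nat.card (Abelianization R) ≤ 19 := cyclic_card_le fun q => by
    obtain ⟨r, rfl⟩ := QuotientGroup.mk'_surjective (commutator R) q
    exact (Nat.le_of_dvd (orderOf_pos r) (orderOf_map_dvd _ r)).trans (hb r)
  have h3 := (commutator R).card_eq_card_quotient_mul_card_subgroup
  rw [h3]
  calc _ ≤ 19 * 19 := Nat.mul_le_mul h2 h1
    _ = 361 := by norm_num

/-- An element of 2-power order of a group isomorphic to `J₁` squares to one. -/
theorem two_power_sq {L : Type u} [Group L] [Finite L] (e : L ≃* Cfsg.Spor.J1) (r : L)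
    (hr : ∃ i, r ^ 2 ^ i = 1) : r * r = 1 := by
  obtain ⟨i, hi⟩ := hr
  obtain ⟨j, -, hj⟩ := (Nat.dvd_prime_pow Nat.prime_two).1 (orderOf_dvd_of_pow_eq_one hi)
  rw [← pow_two, ← orderOf_dvd_iff_pow_eq_one]
  obtain ⟨k, hk, hdk⟩ := Cfsg.Agent.J1.orderOf_dvd_exps (e r)
  rw [MulEquiv.orderOf_eq, hj] at hdk
  rw [hj]
  rcases j with _ | _ | j
  · simp
  · simp
  · exact absurd (dvd_trans ⟨2 ^ j, by ring⟩ hdk) (two_exps k hk)

end Cfsg.Agent.WeakJ1
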