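import Cfsg.Agent.Lib.WeakJ1.Proj
import Cfsg.Agent.Lib.WeakJ1.Odd
import Cfsg.Agent.Lib.Involutions.Basic
import Mathlib.Data.Set.Card
import Mathlib.GroupTheory.GroupAction.Quotient

/-!
Every conjugate of `t` lies in `H`.
-/

set_option autoImplicit false
set_option linter.style.haveILetI false
set_option linter.unusedSectionVars false

namespace Cfsg.Agent.WeakJ1

open CentAlt

universe u

variable {G : Type u} [Group G] [Finite G]

/-- Orbit and stabiliser for conjugation by a subgroup. -/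
theorem class_ncard (t : G) (Q : Subgroup G) :
    (Subgroup.centralizer ({t} : Set G)).relIndex Q = {x : G | ∃ g ∈ Q, g * t * g⁻¹ = x}.ncard := by
  letI act : MulAction Q G := MulAction.compHom G ((MulAut.conj : G →* MulAut G).comp Q.subtype)
  have hsmul : ∀ (n : Q) (x : G), n • x = (n : G) * x * (n : G)⁻¹ := fun _ _ => rfl
  have hst : MulAction.stabilizer Q t = (Subgroup.centralizer ({t} : Set G)).subgroupOf Q := by
    ext n
    rw [MulAction.mem_stabilizer_iff, hsmul, Subgroup.mem_subgroupOf, Subgroup.mem_centralizer_singleton_iff,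
      mul_inv_eq_iff_eq_mul]
  show ((Subgroup.centralizer ({t} : Set G)).subgroupOf Q).index = _
  rw [← hst, MulAction.index_stabilizer]
  congr 1
  ext x
  exact ⟨fun ⟨n, hn⟩ => ⟨n, n.2, hn⟩, fun ⟨g, hg, e⟩ => ⟨⟨g, hg⟩, e⟩⟩

namespace Data

variable {t : G} {ψ : A5' →* G}

theorem class_L (h : Data t ψ) :
    {x : G | IsD t x ∧ x ∈ h.H}.ncard = 1463 := by
  have hset : {x : G | IsD t x ∧ x ∈ h.H} = {x : G | ∃ g ∈ h.L, g * t * g⁻¹ = x} := by
    ext x
    constructor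
    · intro hx
      have hxL : x ∈ h.L := Subgroup.subset_closure hx
      obtain ⟨⟨g, rfl⟩, -⟩ := hx
      obtain ⟨k, hk, e⟩ := h.exists_conj_L hxL
        (by rw [show g * t * g⁻¹ * (g * t * g⁻¹) = g * (t * t) * g⁻¹ by group, h.t_sq]; group)
        (fun e => h.t_ne (conj_eq_one_iff.1 e))
      exact ⟨k, hk, e.symm⟩
    · rintro ⟨g, hg, rfl⟩
      exact ⟨⟨g, rfl⟩, mul_mem (mul_mem (h.L_le_H hg) (h.C_le_H h.t_mem_C)) (inv_mem (h.L_le_H hg))⟩
  rw [hset, ← class_ncard]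
  have hinf : h.C ⊓ h.L = weak t := by
    refine le_antisymm ?_ (le_inf h.weak_le_C h.weak_le_L)
    rintro c ⟨hc, hcL⟩
    obtain ⟨w, hw, x, hx, rfl⟩ := h.C_eq hc
    have := h.L_inf_X ((h.L.mul_mem_cancel_left (h.weak_le_L hw)).1 hcL) hx
    rwa [this, mul_one]
  obtain ⟨e⟩ := h.main_L.2.1
  have hL : Nat.card h.L = 175560 := by rw [Nat.card_congr e.toEquiv, J1.card_J1]
  have hmul := Subgroup.card_mul_index (h.C.subgroupOf h.L)
  have h1 : Nat.card (h.C.subgroupOf h.L) = 120 := by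
    rw [← Subgroup.inf_subgroupOf_right,
      Nat.card_congr (Subgroup.subgroupOfEquivOfLe (inf_le_right : h.C ⊓ h.L ≤ h.L)).toEquiv, hinf, h.card_weak]
  rw [hL, h1] at hmul
  show (h.C.subgroupOf h.L).index = 1463
  omega

/-- Every conjugate of `t` lying in a subgroup containing the Janko group lies in `H`. -/
theorem escape (h : Data t ψ) : ∀ (U : Subgroup G), h.L ≤ U → ∀ e, IsD t e → e ∈ U → e ∈ h.H := by
  classical
  intro U
  induction hn : Nat.card U using Nat.strong_induction_on generalizing U with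
  | _ n ih =>
  subst hn
  intro hLU
  by_contra hno
  simp only [not_forall] at hno
  obtain ⟨e0, he0D, he0U, he0H⟩ := hno
  have tU : t ∈ U := hLU h.t_mem_L
  -- a proper subgroup containing the Janko group has no such conjugate
  have full : ∀ U' : Subgroup G, U' ≤ U → h.L ≤ U' → ∀ e, IsD t e → e ∈ U' → e ∉ h.H → U' = U := by
    intro U' hle hL' e hD heU' heH
    by_contra hne
    have hlt : Nat.card U' < Nat.card U := lt_of_not_ge fun hge => hne (Subgroup.eq_of_le_of_card_ge hle hge)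
    exact heH (ih _ hlt U' rfl hL' e hD heU')
  -- elements of `X` commuting with such a conjugate are central
  have central : ∀ z, z ∈ h.X → z ∈ U → ∀ e, IsD t e → e ∈ U → e ∉ h.H → e * z = z * e →
      ∀ v ∈ U, v * z = z * v := by
    intro z hz hzU e hD heU heH hez v hv
    have := full (U ⊓ Subgroup.centralizer ({z} : Set G)) inf_le_left
      (fun l hl => ⟨hLU hl, Subgroup.mem_centralizer_singleton_iff.2 (h.L_comm_X hl hz)⟩) e hD
      ⟨heU, Subgroup.mem_centralizer_singleton_iff.2 hez⟩ heH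
    rw [← this] at hv
    exact Subgroup.mem_centralizer_singleton_iff.1 hv.2
  -- no conjugate is moved to a conjugate by a nontrivial element of `X`
  have dz : ∀ {z : G}, z ∈ h.X → z ≠ 1 → ¬ IsD t (t * z) := by
    intro z hz hz1 hD
    have hH : t * z ∈ h.H := mul_mem (h.C_le_H h.t_mem_C) (h.X_le_H hz)
    have hL : t * z ∈ h.L := Subgroup.subset_closure ⟨hD, hH⟩
    exact hz1 (h.L_inf_X ((h.L.mul_mem_cancel_left h.t_mem_L).1 hL) hz)
  have hconj : ∀ e, IsD t e → e ∈ U → e ∉ h.H → ∃ g ∈ U, g * t * g⁻¹ = e := by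
    intro e hD heU heH
    obtain ⟨k, hk⟩ := id hD
    have he2 : orderOf e = 2 := by
      rw [hk, show k * t * k⁻¹ = MulAut.conj k t from rfl, MulEquiv.orderOf_eq, h.ord]
    have hcl : Subgroup.closure ({t, e} : Set G) ≤ U := (Subgroup.closure_le _).2 (by
      rintro y (rfl | rfl) <;> assumption)
    rcases Nat.even_or_odd (orderOf (t * e)) with hev | hodd
    swap
    · obtain ⟨d, hd, hde⟩ := Invol.conj_of_odd h.ord he2 hodd
      exact ⟨d, hcl hd, hde⟩
    exfalso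
    set z := (t * e) ^ (orderOf (t * e) / 2) with hz
    obtain ⟨hzt, hze⟩ := Invol.half_commute h.ord he2 hev
    have hz2 : orderOf z = 2 := Invol.half_order h.ord he2 hev (orderOf_pos _)
    have hzC : z ∈ h.C := h.mem_C.2 hzt.eq
    have hzH := h.C_le_H hzC
    have hzU : z ∈ U := pow_mem (mul_mem tU heU) _
    have hzX : z ∈ h.X := by
      rw [← h.pr_eq_one ⟨z, hzH⟩]
      by_contra hne
      exact heH (h.escape_invol hzH (by
        rw [← map_mul, ← map_one h.pr]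
        exact congrArg h.pr (Subtype.ext (by
          show z * z = 1
          rw [← pow_two, ← hz2, pow_orderOf_eq_one]))) hne hD hze.eq.symm)
    have hz1 : z ≠ 1 := fun e1 => by rw [e1, orderOf_one] at hz2; omega
    by_cases h4 : 4 ∣ orderOf (t * e)
    · obtain ⟨d, -, hde⟩ := Invol.conj_mul_half_of_four_dvd h.ord he2 h4
      exact dz hzX hz1 (hde ▸ (isD_self t).conj d)
    · obtain ⟨d, -, hde⟩ := Invol.conj_y_mul_half h.ord he2 hev h4
      exact dz hzX hz1 (hde ▸ hD.conj d)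
  have no_dz : ∀ {z e : G}, z ∈ h.X → z ≠ 1 → (∀ v ∈ U, v * z = z * v) → IsD t e → e ∈ U → e ∉ h.H →
      ¬ IsD t (e * z) := by
    intro z e hz hz1 hc hD heU heH hez
    obtain ⟨g, hg, rfl⟩ := hconj e hD heU heH
    refine dz hz hz1 ?_
    have := hez.conj g⁻¹
    rwa [show g⁻¹ * (g * t * g⁻¹ * z) * g⁻¹⁻¹ = t * (g⁻¹ * z * g) by group,
      show g⁻¹ * z * g = z by rw [mul_assoc, ← hc g hg, inv_mul_cancel_left]] at this
  -- an element of `X` inverted by such a conjugate is central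
  have cyc : ∀ {y e : G}, y ∈ h.X → y ∈ U → IsD t e → e ∈ U → e ∉ h.H → e * y * e⁻¹ = y⁻¹ →
      (∀ v ∈ U, v * y = y * v) ∧ y * y = 1 := by
    intro y e hy hyU hD heU heH hey
    have hYX : Subgroup.zpowers y ≤ h.X := Subgroup.zpowers_le.2 hy
    have hnorm : U ⊓ Subgroup.normalizer ((Subgroup.zpowers y : Subgroup G) : Set G) = U := by
      refine full _ inf_le_left (fun l hl => ⟨hLU hl, ?_⟩) e hD ⟨heU, ?_⟩ heH
      · refine Subgroup.mem_normalizer_fintype (S := ((Subgroup.zpowers y : Subgroup G) : Set G)) fun k hk => ?_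
        rw [SetLike.mem_coe] at hk ⊢
        rwa [h.L_comm_X hl (hYX hk), mul_inv_cancel_right]
      · refine Subgroup.mem_normalizer_fintype (S := ((Subgroup.zpowers y : Subgroup G) : Set G)) fun k hk => ?_
        rw [SetLike.mem_coe] at hk ⊢
        obtain ⟨j, rfl⟩ := Subgroup.mem_zpowers_iff.1 hk
        rw [← conj_zpow, hey, inv_zpow]
        exact inv_mem (zpow_mem (Subgroup.mem_zpowers y) j)
    obtain ⟨g, hg, hge⟩ := hconj e hD heU heH
    rw [← hnorm] at hg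
    have hy' : g⁻¹ * y * g ∈ h.X := hYX (by
      have := (Subgroup.mem_normalizer_iff.1 (inv_mem hg.2) y).1 (Subgroup.mem_zpowers y)
      simpa using this)
    have hcom : e * y = y * e := by
      have e1 : g⁻¹ * y * g * t = t * (g⁻¹ * y * g) := (h.mem_K.1 (h.X_le_K hy')).1
      rw [← hge]
      calc g * t * g⁻¹ * y = g * (t * (g⁻¹ * y * g)) * g⁻¹ := by group
        _ = y * (g * t * g⁻¹) := by rw [← e1]; group
    refine ⟨central y hy hyU e hD heU heH hcom, ?_⟩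
    rw [hcom, mul_inv_cancel_right] at hey
    nth_rewrite 1 [hey]
    exact inv_mul_cancel y
  -- inverted elements with involutory projection
  have inv_q : ∀ {q e : G} (hq : q ∈ h.H), q ∈ U → IsD t e → e ∈ U → e ∉ h.H → e * q * e⁻¹ = q⁻¹ →
      h.pr ⟨q, hq⟩ * h.pr ⟨q, hq⟩ = 1 → h.pr ⟨q, hq⟩ ≠ 1 → False := by
    intro q e hq hqU hD heU heH heq hw2 hw1
    by_cases hq2 : q * q = 1
    · refine heH (h.escape_invol hq hw2 hw1 hD ?_)
      rw [inv_eq_of_mul_eq_one_right hq2] at heq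
      exact mul_inv_eq_iff_eq_mul.1 heq
    have hzX : q * q ∈ h.X := by
      have := (h.pr_eq_one (⟨q, hq⟩ * ⟨q, hq⟩)).1 (by rw [map_mul, hw2])
      exact this
    obtain ⟨hc, -⟩ := cyc hzX (mul_mem hqU hqU) hD heU heH (by rw [← conj_mul, heq, mul_inv_rev])
    refine no_dz hzX hq2 hc hD heU heH ?_
    rw [hc e heU]
    rw [show q * q * e = q * e * q⁻¹ by
      have h' : q * e = e * q⁻¹ := by
        have he2 : e * e = 1 := by
          obtain ⟨k, rfl⟩ := hD
          rw [show k * t * k⁻¹ * (k * t * k⁻¹) = k * (t * t) * k⁻¹ by group, h.t_sq]; group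
        rw [← heq, inv_eq_of_mul_eq_one_right he2]
        rw [show e * (e * q * e) = e * e * q * e by group, he2, one_mul]
      calc q * q * e = q * (q * e) := mul_assoc _ _ _
        _ = q * e * q⁻¹ := by rw [mul_assoc q e, h']]
    exact hD.conj q
  have hesq : ∀ {e : G}, IsD t e → e * e = 1 := by
    rintro e ⟨k, rfl⟩
    rw [show k * t * k⁻¹ * (k * t * k⁻¹) = k * (t * t) * k⁻¹ by group, h.t_sq]; group
  have near : ∀ {a e : G} (ha : a ∈ h.H), a ∈ U → IsD t e → e ∈ U → e ∉ h.H →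
      h.pr ⟨a, ha⟩ * h.pr ⟨a, ha⟩ = 1 → h.pr ⟨a, ha⟩ ≠ 1 → e * a * e⁻¹ * a⁻¹ ∈ h.X → False := by
    intro a e ha haU hD heU heH hw2 hw1 hqX
    have he2 := hesq hD
    have hei : e⁻¹ = e := inv_eq_of_mul_eq_one_right he2
    have hqi : e * (e * a * e⁻¹ * a⁻¹) * e⁻¹ = (e * a * e⁻¹ * a⁻¹)⁻¹ := by
      rw [show e * (e * a * e⁻¹ * a⁻¹) * e⁻¹ = e * e * a * e⁻¹ * a⁻¹ * e⁻¹ by group, he2, one_mul,
        show (e * a * e⁻¹ * a⁻¹)⁻¹ = a * e * a⁻¹ * e⁻¹ by group, hei]
    obtain ⟨hc, hq2⟩ := cyc hqX (mul_mem (mul_mem (mul_mem heU haU) (inv_mem heU)) (inv_mem haU)) hD heU heH hqi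
    by_cases hq1 : e * a * e⁻¹ * a⁻¹ = 1
    · exact heH (h.escape_invol ha hw2 hw1 hD (mul_inv_eq_iff_eq_mul.1 (mul_inv_eq_one.1 hq1)))
    · refine no_dz hqX hq1 hc hD heU heH ?_
      rw [show e * (e * a * e⁻¹ * a⁻¹) = e * e * a * e⁻¹ * a⁻¹ by group, he2, one_mul, hei]
      exact hD.conj a
  obtain ⟨φJ⟩ := h.main_L.2.1
  -- elements moved into `H` have no involutory projection
  have odd_img : ∀ {a e : G} (ha : a ∈ h.H), a ∈ U → IsD t e → e ∈ U → e ∉ h.H → e * a * e⁻¹ ∈ h.H →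
      (∃ i, (a : G) ^ 2 ^ i = 1) → h.pr ⟨a, ha⟩ * h.pr ⟨a, ha⟩ = 1 → h.pr ⟨a, ha⟩ ≠ 1 → False := by
    intro a e ha haU hD heU heH hb ⟨i, hi⟩ hw2 hw1
    have he2 := hesq hD
    have hei : e⁻¹ = e := inv_eq_of_mul_eq_one_right he2
    have hw' : h.pr ⟨_, hb⟩ * h.pr ⟨_, hb⟩ = 1 := by
      refine two_power_sq φJ _ ⟨i, ?_⟩
      rw [← map_pow, ← map_one h.pr]
      refine congrArg h.pr (Subtype.ext ?_)
      show (e * a * e⁻¹) ^ 2 ^ i = 1
      rw [conj_pow, hi]; group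
    set q := e * a * e⁻¹ * a⁻¹ with hq
    have hqH : q ∈ h.H := mul_mem hb (inv_mem ha)
    have hqU : q ∈ U := mul_mem (mul_mem (mul_mem heU haU) (inv_mem heU)) (inv_mem haU)
    have hqi : e * q * e⁻¹ = q⁻¹ := by
      rw [hq, show e * (e * a * e⁻¹ * a⁻¹) * e⁻¹ = e * e * a * e⁻¹ * a⁻¹ * e⁻¹ by group, he2, one_mul,
        show (e * a * e⁻¹ * a⁻¹)⁻¹ = a * e * a⁻¹ * e⁻¹ by group, hei]
    set w := h.pr ⟨a, ha⟩ with hw
    set w' := h.pr ⟨_, hb⟩ with hw'd
    set r := h.pr ⟨q, hqH⟩ with hr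
    have hrw : r = w' * w := by
      rw [hr, show (⟨q, hqH⟩ : h.H) = ⟨_, hb⟩ * (⟨a, ha⟩ : h.H)⁻¹ from rfl, map_mul, map_inv,
        inv_eq_of_mul_eq_one_right hw2]
    have hinv : w * r * w⁻¹ = r⁻¹ := by
      rw [hrw, mul_inv_rev, inv_eq_of_mul_eq_one_right hw2, inv_eq_of_mul_eq_one_right hw',
        mul_assoc w (w' * w), mul_assoc w' w w, hw2, mul_one]
    have hqp : ∀ j : ℕ, e * q ^ j * e⁻¹ = (q ^ j)⁻¹ := fun j => by rw [← conj_pow, hqi, inv_pow]
    have hprp : ∀ j : ℕ, h.pr ⟨q ^ j, pow_mem hqH j⟩ = r ^ j := fun j => by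
      rw [show (⟨q ^ j, pow_mem hqH j⟩ : h.H) = (⟨q, hqH⟩ : h.H) ^ j from rfl, map_pow]
    rcases Nat.even_or_odd (orderOf r) with hev | hodd
    · have hpos := orderOf_pos r
      obtain ⟨m, hm⟩ := hev
      refine inv_q (pow_mem hqH m) (pow_mem hqU m) hD heU heH (hqp m) ?_ ?_
      · rw [hprp, ← pow_add, ← hm, pow_orderOf_eq_one]
      · rw [hprp]
        exact pow_ne_one_of_lt_orderOf (by omega) (by omega)
    · obtain ⟨m, hm⟩ := hodd
      have ha' : q ^ (m + 1) * a ∈ h.H := mul_mem (pow_mem hqH _) ha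
      have hpr : h.pr ⟨_, ha'⟩ = r ^ (m + 1) * w := by
        rw [show (⟨_, ha'⟩ : h.H) = ⟨q ^ (m + 1), pow_mem hqH _⟩ * ⟨a, ha⟩ from rfl, map_mul, hprp]
      refine near ha' (mul_mem (pow_mem hqU _) haU) hD heU heH ?_ ?_ ?_
      · rw [hpr]
        have e1 : w * r ^ (m + 1) * w = (r ^ (m + 1))⁻¹ := by
          have := hinv
          calc w * r ^ (m + 1) * w = w * r ^ (m + 1) * w⁻¹ := by rw [inv_eq_of_mul_eq_one_right hw2]
            _ = _ := by rw [← conj_pow, hinv, inv_pow]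
        rw [mul_assoc, ← mul_assoc w, e1, mul_inv_cancel]
      · rw [hpr]
        intro e1
        have hrm : r ^ (m + 1) = w := by
          rw [mul_eq_one_iff_eq_inv.1 e1, inv_eq_of_mul_eq_one_right hw2]
        have hdw : orderOf w ∣ orderOf r := by
          rw [← hrm, orderOf_pow]
          exact Nat.div_dvd_of_dvd (Nat.gcd_dvd_left _ _)
        rw [orderOf_eq_prime (p := 2) (hp := ⟨Nat.prime_two⟩) (by rw [pow_two]; exact hw2) hw1, hm] at hdw
        omega
      · have e1 : e * (q ^ (m + 1) * a) * e⁻¹ * (q ^ (m + 1) * a)⁻¹ =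
            (q ^ (m + 1))⁻¹ * q * (q ^ (m + 1))⁻¹ := by
          rw [← conj_mul, hqp, hq]; group
        rw [e1]
        refine (h.pr_eq_one ⟨_, mul_mem (mul_mem (inv_mem (pow_mem hqH _)) hqH) (inv_mem (pow_mem hqH _))⟩).1 ?_
        rw [show (⟨_, mul_mem (mul_mem (inv_mem (pow_mem hqH (m + 1))) hqH) (inv_mem (pow_mem hqH (m + 1)))⟩ : h.H)
          = (⟨q ^ (m + 1), pow_mem hqH _⟩ : h.H)⁻¹ * ⟨q, hqH⟩ * (⟨q ^ (m + 1), pow_mem hqH _⟩ : h.H)⁻¹ from rfl,
          map_mul, map_mul, map_inv, hprp, ← hr]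
        have h1 := pow_orderOf_eq_one r
        rw [hm] at h1
        calc (r ^ (m + 1))⁻¹ * r * (r ^ (m + 1))⁻¹ = (r ^ (2 * m + 1))⁻¹ := by group
          _ = 1 := by rw [h1, inv_one]
  -- at most 361 conjugates in one coset
  have fiber : ∀ e, IsD t e → e ∈ U → e ∉ h.H →
      {e' : G | IsD t e' ∧ e' ∈ U ∧ e' ∉ h.H ∧ e' * e ∈ h.H}.ncard ≤ 361 := by
    intro e hD heU heH
    set S := {e' : G | IsD t e' ∧ e' ∈ U ∧ e' ∉ h.H ∧ e' * e ∈ h.H} with hS
    let A : Subgroup h.H :=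
      { carrier := {y | (y : G) ∈ U ∧ e * (y : G) * e⁻¹ ∈ h.H}
        one_mem' := ⟨one_mem _, by simp⟩
        mul_mem' := fun {y z} hy hz => ⟨mul_mem hy.1 hz.1, by
          show e * ((y : G) * z) * e⁻¹ ∈ h.H
          rw [← conj_mul]; exact mul_mem hy.2 hz.2⟩
        inv_mem' := fun {y} hy => ⟨inv_mem hy.1, by
          show e * (y : G)⁻¹ * e⁻¹ ∈ h.H
          rw [← conj_inv]; exact inv_mem hy.2⟩ }
    set R := A.map h.pr with hR
    have hRodd : Odd (Nat.card R) := by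
      rw [← Nat.not_even_iff_odd, even_iff_two_dvd]
      intro h2
      haveI : Fact (Nat.Prime 2) := ⟨Nat.prime_two⟩
      obtain ⟨⟨r, hr⟩, hr2⟩ := exists_prime_orderOf_dvd_card' (G := R) 2 h2
      rw [Subgroup.orderOf_mk] at hr2
      obtain ⟨y, hy, rfl⟩ := hr
      obtain ⟨k, m, hm, hn⟩ := Nat.exists_eq_two_pow_mul_odd (orderOf_pos (y : G)).ne'
      have hsq : h.pr y * h.pr y = 1 := by rw [← pow_two, ← hr2, pow_orderOf_eq_one]
      obtain ⟨j, rfl⟩ := hm
      refine odd_img (a := ((y ^ (2 * j + 1) : h.H) : G)) (y ^ (2 * j + 1)).2 ?_ hD heU heH ?_ ⟨k, ?_⟩ ?_ ?_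
      · exact (pow_mem hy (2 * j + 1)).1
      · exact (pow_mem hy (2 * j + 1)).2
      · rw [Subgroup.coe_pow, ← pow_mul, mul_comm (2 * j + 1), ← hn, pow_orderOf_eq_one]
      all_goals
        rw [show (⟨((y ^ (2 * j + 1) : h.H) : G), (y ^ (2 * j + 1)).2⟩ : h.H) = y ^ (2 * j + 1) from rfl,
          map_pow, pow_succ, pow_mul, pow_two, hsq, one_pow, one_mul]
      · exact hsq
      · intro e1
        rw [e1, orderOf_one] at hr2
        omega
    have hf : ∀ e' ∈ S, ∃ l : R, ∀ he' : e' * e ∈ h.H, (l : h.L) = h.pr ⟨e' * e, he'⟩ := by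
      intro e' he'
      obtain ⟨hD', hU', -, hH'⟩ := he'
      refine ⟨⟨h.pr ⟨e' * e, hH'⟩, ⟨e' * e, hH'⟩, ⟨mul_mem hU' heU, ?_⟩, rfl⟩, fun _ => rfl⟩
      show e * (e' * e) * e⁻¹ ∈ h.H
      have e1 : e * (e' * e) * e⁻¹ = (e' * e)⁻¹ := by
        rw [mul_inv_rev, inv_eq_of_mul_eq_one_right (hesq hD'), ← mul_assoc e e' e, mul_inv_cancel_right,
          inv_eq_of_mul_eq_one_right (hesq hD)]
      rw [e1]
      exact inv_mem hH'
    choose f hfs using hf
    have hinj : Function.Injective (fun s : S => f s.1 s.2) := by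
      rintro ⟨e1, h1⟩ ⟨e2, h2⟩ e12
      obtain ⟨hD1, hU1, hH1, hM1⟩ := id h1
      obtain ⟨hD2, hU2, hH2, hM2⟩ := id h2
      have ep : h.pr ⟨e1 * e, hM1⟩ = h.pr ⟨e2 * e, hM2⟩ := by
        rw [← hfs e1 h1 hM1, ← hfs e2 h2 hM2]
        exact congrArg Subtype.val e12
      refine Subtype.ext ?_
      show e1 = e2
      by_contra hne
      have hxH : e2 * e1 ∈ h.H := by
        have := mul_mem hM2 (inv_mem hM1)
        rwa [show e2 * e * (e1 * e)⁻¹ = e2 * e1⁻¹ by group, inv_eq_of_mul_eq_one_right (hesq hD1)] at this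
      have hxX : e2 * e1 ∈ h.X := by
        refine (h.pr_eq_one ⟨_, hxH⟩).1 ?_
        rw [show (⟨_, hxH⟩ : h.H) = ⟨e2 * e, hM2⟩ * (⟨e1 * e, hM1⟩ : h.H)⁻¹ from Subtype.ext (by
          show e2 * e1 = e2 * e * (e1 * e)⁻¹
          rw [show e2 * e * (e1 * e)⁻¹ = e2 * e1⁻¹ by group, inv_eq_of_mul_eq_one_right (hesq hD1)]),
          map_mul, map_inv, ep, mul_inv_cancel]
      have hi : e1 * (e2 * e1) * e1⁻¹ = (e2 * e1)⁻¹ := by
        rw [mul_inv_rev, inv_eq_of_mul_eq_one_right (hesq hD2), ← mul_assoc e1 e2 e1, mul_inv_cancel_right,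
          inv_eq_of_mul_eq_one_right (hesq hD1)]
      obtain ⟨hc, -⟩ := cyc hxX (mul_mem hU2 hU1) hD1 hU1 hH1 hi
      refine no_dz hxX ?_ hc hD1 hU1 hH1 ?_
      · intro e0
        apply hne
        rw [mul_eq_one_iff_eq_inv] at e0
        rw [e0, inv_eq_of_mul_eq_one_right (hesq hD1)]
      · rw [← mul_assoc]
        have := hD2.conj e1
        rwa [inv_eq_of_mul_eq_one_right (hesq hD1)] at this
    calc S.ncard = Nat.card S := (Nat.card_coe_set_eq S).symm
      _ ≤ Nat.card R := Nat.card_le_card_of_injective _ hinj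
      _ ≤ 361 := odd_card_le φJ R hRodd
  -- count the conjugates in `U`
  set HU := h.H.subgroupOf U with hHU
  have hc1 : h.C.relIndex U = {x : G | IsD t x ∧ x ∈ U}.ncard := by
    rw [class_ncard]
    congr 1
    ext x
    constructor
    · rintro ⟨g, hg, rfl⟩
      exact ⟨⟨g, rfl⟩, mul_mem (mul_mem hg tU) (inv_mem hg)⟩
    · rintro ⟨hD, hxU⟩
      by_cases hxH : x ∈ h.H
      · obtain ⟨k, hk⟩ := id hD
        obtain ⟨l, hl, hle⟩ := h.exists_conj_L (Subgroup.subset_closure ⟨hD, hxH⟩ : x ∈ h.L) (hesq hD)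
          (fun e1 => h.t_ne (conj_eq_one_iff.1 (hk.symm.trans e1)))
        exact ⟨l, hLU hl, hle.symm⟩
      · exact hconj x hD hxU hxH
  have hc2 : h.C.relIndex (h.H ⊓ U) = 1463 := by
    rw [← h.class_L, class_ncard]
    congr 1
    ext x
    constructor
    · rintro ⟨g, hg, rfl⟩
      exact ⟨⟨g, rfl⟩, mul_mem (mul_mem hg.1 (h.C_le_H h.t_mem_C)) (inv_mem hg.1)⟩
    · rintro ⟨hD, hxH⟩
      obtain ⟨k, hk⟩ := id hD
      obtain ⟨l, hl, hle⟩ := h.exists_conj_L (Subgroup.subset_closure ⟨hD, hxH⟩ : x ∈ h.L) (hesq hD)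
        (fun e1 => h.t_ne (conj_eq_one_iff.1 (hk.symm.trans e1)))
      exact ⟨l, ⟨h.L_le_H hl, hLU hl⟩, hle.symm⟩
  have hc3 : h.C.relIndex U = 1463 * HU.index := by
    have hC : ∀ Q : Subgroup G, (h.C ⊓ U).relIndex (Q ⊓ U) = h.C.relIndex (Q ⊓ U) := fun Q => by
      rw [← Subgroup.inf_relIndex_right, inf_assoc, inf_eq_right.2 (inf_le_right : Q ⊓ U ≤ U),
        Subgroup.inf_relIndex_right]
    have := Subgroup.relIndex_mul_relIndex (h.C ⊓ U) (h.H ⊓ U) U (inf_le_inf_right U h.C_le_H) inf_le_right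
    rw [hC, hc2, Subgroup.inf_relIndex_right, Subgroup.inf_relIndex_right] at this
    exact this.symm
  -- distribute over the cosets
  let Dout := {x : G | IsD t x ∧ x ∈ U ∧ x ∉ h.H}
  have hsplit : {x : G | IsD t x ∧ x ∈ U}.ncard = 1463 + Dout.ncard := by
    rw [← h.class_L, ← Set.ncard_union_eq]
    · congr 1
      ext x
      constructor
      · rintro ⟨hD, hxU⟩
        by_cases hxH : x ∈ h.H
        · exact Or.inl ⟨hD, hxH⟩
        · exact Or.inr ⟨hD, hxU, hxH⟩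
      · rintro (⟨hD, hxH⟩ | ⟨hD, hxU, -⟩)
        · exact ⟨hD, hLU (Subgroup.subset_closure ⟨hD, hxH⟩)⟩
        · exact ⟨hD, hxU⟩
    · exact Set.disjoint_left.2 fun x hx hx' => hx'.2.2 hx.2
  haveI : Fintype G := Fintype.ofFinite G
  haveI : Fintype (U ⧸ HU) := Fintype.ofFinite _
  let φ : G → U ⧸ HU := fun x => if hx : x ∈ U then QuotientGroup.mk ⟨x, hx⟩ else QuotientGroup.mk 1
  have hbound : Dout.toFinset.card ≤ 361 * (Finset.univ.erase (QuotientGroup.mk (1 : U) : U ⧸ HU)).card := by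
    refine Finset.card_le_mul_card_image_of_maps_to (f := φ) (fun x hx => ?_) 361 (fun c _ => ?_)
    · rw [Set.mem_toFinset] at hx
      refine Finset.mem_erase.2 ⟨?_, Finset.mem_univ _⟩
      simp only [φ, dif_pos hx.2.1]
      intro e1
      rw [QuotientGroup.eq, mul_one] at e1
      exact hx.2.2 (inv_mem_iff.1 e1)
    · by_cases hne : (Dout.toFinset.filter fun x => φ x = c).Nonempty
      · obtain ⟨e, he⟩ := hne
        rw [Finset.mem_filter, Set.mem_toFinset] at he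
        obtain ⟨⟨hD, heU, heH⟩, hφe⟩ := he
        refine le_trans ?_ (fiber e hD heU heH)
        rw [Set.ncard_eq_toFinset_card']
        refine Finset.card_le_card fun x hx => ?_
        rw [Finset.mem_filter, Set.mem_toFinset] at hx
        obtain ⟨⟨hxD, hxU, hxH⟩, hφx⟩ := hx
        rw [Set.mem_toFinset]
        refine ⟨hxD, hxU, hxH, ?_⟩
        have e1 : φ x = φ e := hφx.trans hφe.symm
        simp only [φ, dif_pos hxU, dif_pos heU] at e1
        rw [QuotientGroup.eq] at e1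
        have e2 : x⁻¹ * e ∈ h.H := e1
        rwa [inv_eq_of_mul_eq_one_right (hesq hxD)] at e2
      · rw [Finset.not_nonempty_iff_eq_empty.1 hne, Finset.card_empty]
        exact Nat.zero_le _
  rw [Finset.card_erase_of_mem (Finset.mem_univ _), Finset.card_univ, ← Nat.card_eq_fintype_card,
    ← Subgroup.index_eq_card, ← Set.ncard_eq_toFinset_card'] at hbound
  rw [hc1, hsplit] at hc3
  have hpos : Dout.ncard ≠ 0 := by
    rw [← Nat.pos_iff_ne_zero, Set.ncard_pos]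
    exact ⟨e0, he0D, he0U, he0H⟩
  have h361 : 361 * (HU.index - 1) = 361 * HU.index - 361 := by omega
  omega

theorem normalClosure_eq (h : Data t ψ) : Subgroup.normalClosure ({t} : Set G) = h.L := by
  have hall : ∀ e, IsD t e → e ∈ h.H := fun e hD => h.escape ⊤ le_top e hD (Subgroup.mem_top e)
  refine le_antisymm ?_ ?_
  · refine (Subgroup.closure_le _).2 ?_
    intro x hx
    rw [Group.mem_conjugatesOfSet_iff] at hx
    obtain ⟨a, ha, hax⟩ := hx
    rw [Set.mem_singleton_iff] at ha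
    subst ha
    obtain ⟨c, rfl⟩ := isConj_iff.1 hax
    exact Subgroup.subset_closure ⟨⟨c, rfl⟩, hall _ ⟨c, rfl⟩⟩
  · refine (Subgroup.closure_le _).2 ?_
    rintro x ⟨⟨g, rfl⟩, -⟩
    exact Subgroup.normalClosure_normal.conj_mem t (Subgroup.subset_normalClosure (Set.mem_singleton t)) g

end Data

end Cfsg.Agent.WeakJ1
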