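import Cfsg.Agent.Lib.WeakJ1.Setup
import Mathlib.GroupTheory.GroupAction.Basic
import Mathlib.Data.Nat.ModEq

/-!
The elementary abelian subgroup `E0 = ⟨t⟩ × V` and the fusion in it.
-/

set_option autoImplicit false
set_option linter.style.haveILetI false
set_option linter.unusedSectionVars false

namespace Cfsg.Agent.WeakJ1

open CentAlt

variable {G : Type*} [Group G]

namespace Data

variable {t : G} {ψ : A5' →* G}

/-- `⟨t⟩ × V`. -/
def E0 (h : Data t ψ) : Subgroup G where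
  carrier := {x | ∃ v, InV v ∧ (x = ψ v ∨ x = t * ψ v)}
  one_mem' := ⟨1, Or.inl rfl, Or.inl (map_one ψ).symm⟩
  mul_mem' := by
    rintro x y ⟨u, hu, hx⟩ ⟨v, hv, hy⟩
    refine ⟨u * v, inV_mul u v hu hv, ?_⟩
    rcases hx with rfl | rfl <;> rcases hy with rfl | rfl
    · exact Or.inl (map_mul ψ u v).symm
    · right; rw [map_mul, ← mul_assoc, h.comm u, mul_assoc]
    · right; rw [map_mul, mul_assoc]
    · left
      rw [map_mul, mul_assoc t (ψ u), ← mul_assoc (ψ u) t, h.comm u, mul_assoc t (ψ u), ← mul_assoc t t,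
        h.t_sq, one_mul]
  inv_mem' := by
    rintro x ⟨u, hu, hx⟩
    refine ⟨u, hu, ?_⟩
    rcases hx with rfl | rfl
    · left; rw [← map_inv, inv_eq_of_mul_eq_one_right (inV_sq u hu)]
    · right
      exact inv_eq_of_mul_eq_one_right (by rw [h.tpsi_sq, inV_sq u hu, map_one])

theorem t_mem_E0 (h : Data t ψ) : t ∈ h.E0 := ⟨1, Or.inl rfl, Or.inr (by rw [map_one, mul_one])⟩

theorem psi_mem_E0 (h : Data t ψ) {v : A5'} (hv : InV v) : ψ v ∈ h.E0 := ⟨v, hv, Or.inl rfl⟩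

theorem E0_le_weak (h : Data t ψ) : h.E0 ≤ weak t := by
  rintro x ⟨v, -, rfl | rfl⟩
  exacts [h.psi_mem v, h.tpsi_mem v]

theorem E0_sq (h : Data t ψ) {x : G} (hx : x ∈ h.E0) : x * x = 1 := by
  obtain ⟨v, hv, rfl | rfl⟩ := hx
  · rw [← map_mul, inV_sq v hv, map_one]
  · rw [h.tpsi_sq, inV_sq v hv, map_one]

theorem E0_comm (h : Data t ψ) {x y : G} (hx : x ∈ h.E0) (hy : y ∈ h.E0) : x * y = y * x := by
  have e := h.E0_sq (mul_mem hx hy)
  calc x * y = (x * y)⁻¹ := (inv_eq_of_mul_eq_one_right e).symm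
    _ = y * x := by
      rw [mul_inv_rev, inv_eq_of_mul_eq_one_right (h.E0_sq hy), inv_eq_of_mul_eq_one_right (h.E0_sq hx)]

theorem card_E0 (h : Data t ψ) : Nat.card h.E0 = 8 := by
  let f : Fin 2 × {v : A5' // InV v} → h.E0 := fun p =>
    if p.1 = 0 then ⟨ψ p.2.1, p.2.1, p.2.2, Or.inl rfl⟩ else ⟨t * ψ p.2.1, p.2.1, p.2.2, Or.inr rfl⟩
  have hf : Function.Bijective f := by
    constructor
    · rintro ⟨i, a⟩ ⟨j, b⟩ e
      fin_cases i <;> fin_cases j <;> simp [f] at e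
      · exact Prod.ext rfl (Subtype.ext (h.inj (congrArg Subtype.val e)))
      · exact absurd (congrArg Subtype.val e).symm (h.t_psi_ne _ _)
      · exact absurd (congrArg Subtype.val e) (h.t_psi_ne _ _)
      · exact Prod.ext rfl (Subtype.ext (h.tpsi_inj (congrArg Subtype.val e)))
    · rintro ⟨x, v, hv, rfl | rfl⟩
      · exact ⟨(0, ⟨v, hv⟩), rfl⟩
      · exact ⟨(1, ⟨v, hv⟩), by simp [f]⟩
  rw [← Nat.card_eq_of_bijective f hf, Nat.card_prod, Nat.card_fin, Nat.card_eq_fintype_card]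
  decide +kernel

theorem card_weak (h : Data t ψ) : Nat.card (weak t) = 120 := by
  let f : Fin 2 × A5' → weak t := fun p =>
    if p.1 = 0 then ⟨ψ p.2, h.psi_mem _⟩ else ⟨t * ψ p.2, h.tpsi_mem _⟩
  have hf : Function.Bijective f := by
    constructor
    · rintro ⟨i, a⟩ ⟨j, b⟩ e
      fin_cases i <;> fin_cases j <;> simp [f] at e
      · exact Prod.ext rfl (h.inj e)
      · exact absurd e.symm (h.t_psi_ne _ _)
      · exact absurd e (h.t_psi_ne _ _)
      · exact Prod.ext rfl (h.inj e)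
    · rintro ⟨x, hx⟩
      obtain ⟨v, rfl | rfl⟩ := (h.mem x).1 hx
      · exact ⟨(0, v), rfl⟩
      · exact ⟨(1, v), by simp [f]⟩
  rw [← Nat.card_eq_of_bijective f hf, Nat.card_prod, Nat.card_fin, card_five]

variable [Finite G]

/-- Every subgroup of order eight of the weak closure is conjugate to `E0` by an element of the simple part. -/
theorem conj_E0 (h : Data t ψ) {F : Subgroup G} (hF : F ≤ weak t) (h8 : Nat.card F = 8) :
    ∃ a, ∀ x, x ∈ F ↔ ψ a * x * (ψ a)⁻¹ ∈ h.E0 := by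
  haveI : Fact (Nat.Prime 2) := ⟨Nat.prime_two⟩
  have mk : ∀ K : Subgroup G, K ≤ weak t → Nat.card K = 8 →
      ∃ P : Sylow 2 (weak t), (P : Subgroup (weak t)) = K.subgroupOf (weak t) := by
    intro K hK hK8
    have hc : Nat.card (K.subgroupOf (weak t)) = 8 :=
      (Nat.card_congr (Subgroup.subgroupOfEquivOfLe hK).toEquiv).trans hK8
    have hp : IsPGroup 2 (K.subgroupOf (weak t)) := IsPGroup.of_card (n := 3) (by rw [hc]; norm_num)
    refine ⟨hp.toSylow ?_, rfl⟩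
    intro h2
    have := Subgroup.card_mul_index (K.subgroupOf (weak t))
    rw [hc, h.card_weak] at this
    omega
  obtain ⟨P, hP⟩ := mk F hF h8
  obtain ⟨Q, hQ⟩ := mk h.E0 h.E0_le_weak h.card_E0
  obtain ⟨w, hw⟩ := MulAction.exists_smul_eq (weak t) P Q
  have key : ∀ x : G, x ∈ F ↔ (w : G) * x * (w : G)⁻¹ ∈ h.E0 := by
    intro x
    constructor
    · intro hx
      have h1 : w * ⟨x, hF hx⟩ * w⁻¹ ∈ (Q : Subgroup (weak t)) := by
        rw [← hw]
        exact ⟨⟨x, hF hx⟩, by rw [hP]; exact Subgroup.mem_subgroupOf.2 hx, rfl⟩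
      rw [hQ, Subgroup.mem_subgroupOf] at h1
      exact h1
    · intro hx
      have hxW : x ∈ weak t := by
        have := mul_mem (mul_mem (inv_mem w.2) (h.E0_le_weak hx)) w.2
        simpa [mul_assoc] using this
      have h1 : w * ⟨x, hxW⟩ * w⁻¹ ∈ (Q : Subgroup (weak t)) := by
        rw [hQ, Subgroup.mem_subgroupOf]
        exact hx
      rw [← hw, Sylow.coe_subgroup_smul] at h1
      obtain ⟨y, hy, hye⟩ := h1
      have hxy : y = ⟨x, hxW⟩ := mul_left_cancel (mul_right_cancel hye)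
      rw [hxy] at hy
      rw [hP] at hy
      exact Subgroup.mem_subgroupOf.1 hy
  obtain ⟨a, ha | ha⟩ := (h.mem _).1 w.2
  · exact ⟨a, fun x => by rw [key, ha]⟩
  · refine ⟨a, fun x => ?_⟩
    rw [key, ha]
    have hcalc : t * ψ a * x * (t * ψ a)⁻¹ = t * (ψ a * x * (ψ a)⁻¹) * t⁻¹ := by group
    rw [hcalc]
    constructor
    · intro hh
      have := mul_mem (mul_mem (inv_mem h.t_mem_E0) hh) h.t_mem_E0
      simpa [mul_assoc] using this
    · intro hh
      exact mul_mem (mul_mem h.t_mem_E0 hh) (inv_mem h.t_mem_E0)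

/-- The normaliser of `E0`. -/
def N (h : Data t ψ) : Subgroup G := Subgroup.normalizer (h.E0 : Set G)

theorem mem_N (h : Data t ψ) {g : G} : g ∈ h.N ↔ ∀ x ∈ h.E0, g * x * g⁻¹ ∈ h.E0 :=
  ⟨fun hg x hx => (Subgroup.mem_normalizer_iff.1 hg x).1 hx, fun hg =>
    Subgroup.mem_normalizer_fintype (S := (h.E0 : Set G)) hg⟩

theorem exists_move (h : Data t ψ) {d : G} (hd : IsD t d) (hd0 : d ∈ h.E0) :
    ∃ g ∈ h.N, g * t * g⁻¹ = d := by
  obtain ⟨g, rfl⟩ := hd
  -- pull `E0` back into the weak closure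
  let φ : G →* G := (MulAut.conj g⁻¹).toMonoidHom
  have hφ : ∀ x, φ x = g⁻¹ * x * g := fun x => by simp [φ]
  have hinW : ∀ x ∈ h.E0, IsD t x → g⁻¹ * x * g ∈ weak t := by
    intro x hx hxD
    refine mem_weak_of_isD (by simpa using hxD.conj g⁻¹) ?_
    calc g⁻¹ * x * g * t = g⁻¹ * (x * (g * t * g⁻¹)) * g := by group
      _ = g⁻¹ * ((g * t * g⁻¹) * x) * g := by rw [h.E0_comm hx hd0]
      _ = t * (g⁻¹ * x * g) := by group
  have hall : h.E0.map φ ≤ weak t := by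
    rintro _ ⟨x, ⟨v, hv, hx⟩, rfl⟩
    have htmem := hinW t h.t_mem_E0 (isD_self t)
    have hψmem : g⁻¹ * ψ v * g ∈ weak t := by
      by_cases hv1 : v = 1
      · subst hv1; simp
      rcases h.isD_cases with hD | hD
      · exact hinW _ (h.psi_mem_E0 hv) (hD v (inV_sq v hv) hv1)
      · have := mul_mem htmem (hinW _ ⟨v, hv, Or.inr rfl⟩ (hD v (inV_sq v hv) hv1))
        rw [show g⁻¹ * t * g * (g⁻¹ * (t * ψ v) * g) = g⁻¹ * (t * t * ψ v) * g by group, h.t_sq, one_mul] at this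
        exact this
    rw [hφ]
    rcases hx with rfl | rfl
    · exact hψmem
    · rw [show g⁻¹ * (t * ψ v) * g = g⁻¹ * t * g * (g⁻¹ * ψ v * g) by group]
      exact mul_mem htmem hψmem
  obtain ⟨a, ha⟩ := h.conj_E0 hall (by
    rw [Subgroup.card_map_of_injective (MulAut.conj g⁻¹).injective, h.card_E0])
  refine ⟨g * (ψ a)⁻¹, h.mem_N.2 fun x hx => ?_, ?_⟩
  · have h2 : (ψ a)⁻¹ * x * ψ a ∈ h.E0.map φ := (ha _).2 (by simpa [mul_assoc] using hx)
    obtain ⟨y, hy, hye⟩ := h2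
    rw [hφ] at hye
    have : g * (ψ a)⁻¹ * x * (g * (ψ a)⁻¹)⁻¹ = y := by
      rw [show g * (ψ a)⁻¹ * x * (g * (ψ a)⁻¹)⁻¹ = g * ((ψ a)⁻¹ * x * ψ a) * g⁻¹ by group, ← hye]
      group
    rwa [this]
  · calc g * (ψ a)⁻¹ * t * (g * (ψ a)⁻¹)⁻¹ = g * ((ψ a)⁻¹ * (t * ψ a)) * g⁻¹ := by group
      _ = g * t * g⁻¹ := by rw [← h.comm a]; group

/-- A Sylow 2-subgroup of the group centralising `t` and normalising `E0`. -/
theorem exists_sylow_N (h : Data t ψ) : ∃ S : Sylow 2 G, h.E0 ≤ S ∧ (S : Subgroup G) ≤ h.C ⊓ h.N := by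
  haveI : Fact (Nat.Prime 2) := ⟨Nat.prime_two⟩
  obtain ⟨S0, hS0t, hS0c⟩ := h.odd
  have hS0C : (S0 : Subgroup G) ≤ h.C := fun s hs => h.mem_C.2 (hS0c s hs)
  have hE0C : h.E0 ≤ h.C := h.E0_le_weak.trans h.weak_le_C
  have hpg : IsPGroup 2 (h.E0.subgroupOf h.C) := IsPGroup.of_card (n := 3) (by
    rw [Nat.card_congr (Subgroup.subgroupOfEquivOfLe hE0C).toEquiv, h.card_E0]; norm_num)
  obtain ⟨P, hP⟩ := hpg.exists_le_sylow
  obtain ⟨c, hc⟩ := MulAction.exists_smul_eq h.C (S0.subtype hS0C) P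
  refine ⟨(c : G) • S0, ?_, le_inf ?_ ?_⟩
  · intro x hx
    have h1 : (⟨x, hE0C hx⟩ : h.C) ∈ (P : Subgroup h.C) := hP hx
    rw [← hc] at h1
    obtain ⟨y, hy, hye⟩ := h1
    exact ⟨(y : G), hy, congrArg Subtype.val hye⟩
  · rintro _ ⟨s, hs, rfl⟩
    exact mul_mem (mul_mem c.2 (hS0C hs)) (inv_mem c.2)
  · intro s hs
    set S : Sylow 2 G := (c : G) • S0 with hS
    have hSC : (S : Subgroup G) ≤ h.C := by
      rintro _ ⟨s, hs, rfl⟩
      exact mul_mem (mul_mem c.2 (hS0C hs)) (inv_mem c.2)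
    have hE0S : h.E0 ≤ (S : Subgroup G) := by
      intro x hx
      have h1 : (⟨x, hE0C hx⟩ : h.C) ∈ (P : Subgroup h.C) := hP hx
      rw [← hc] at h1
      obtain ⟨y, hy, hye⟩ := h1
      exact ⟨(y : G), hy, congrArg Subtype.val hye⟩
    have heq : h.E0 = (S : Subgroup G) ⊓ weak t := by
      refine Subgroup.eq_of_le_of_card_ge (le_inf hE0S h.E0_le_weak) ?_
      rw [h.card_E0]
      have hdW : Nat.card ((S : Subgroup G) ⊓ weak t : Subgroup G) ∣ 120 :=
        h.card_weak ▸ Subgroup.card_dvd_of_le inf_le_right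
      obtain ⟨k, hk⟩ := IsPGroup.iff_card.1 (S.isPGroup'.to_le (inf_le_left : (S : Subgroup G) ⊓ weak t ≤ S))
      rw [hk] at hdW ⊢
      have hk7 : k < 7 := (Nat.pow_lt_pow_iff_right one_lt_two).1 ((Nat.le_of_dvd (by norm_num) hdW).trans_lt (by norm_num))
      interval_cases k <;> omega
    refine h.mem_N.2 fun x hx => ?_
    rw [heq] at hx ⊢
    have hs : s ∈ (S : Subgroup G) := hs
    exact Subgroup.mem_inf.2 ⟨mul_mem (mul_mem hs (Subgroup.mem_inf.1 hx).1) (inv_mem hs),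
      h.conj_weak (hSC hs) (Subgroup.mem_inf.1 hx).2⟩

theorem index_orbit (h : Data t ψ) :
    ((h.C ⊓ h.N).subgroupOf h.N).index = {x : G | x ∈ h.E0 ∧ IsD t x}.ncard := by
  letI act : MulAction h.N G := MulAction.compHom G ((MulAut.conj : G →* MulAut G).comp h.N.subtype)
  have hsmul : ∀ (n : h.N) (x : G), n • x = (n : G) * x * (n : G)⁻¹ := fun _ _ => rfl
  have hst : MulAction.stabilizer h.N t = (h.C ⊓ h.N).subgroupOf h.N := by
    ext n
    rw [MulAction.mem_stabilizer_iff, hsmul, Subgroup.mem_subgroupOf, Subgroup.mem_inf, h.mem_C,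
      and_iff_left n.2, mul_inv_eq_iff_eq_mul]
  rw [← hst, MulAction.index_stabilizer]
  congr 1
  ext x
  constructor
  · rintro ⟨n, rfl⟩
    exact ⟨h.mem_N.1 n.2 t h.t_mem_E0, ⟨(n : G), rfl⟩⟩
  · rintro ⟨hx, hd⟩
    obtain ⟨g, hg, rfl⟩ := h.exists_move hd hx
    exact ⟨⟨g, hg⟩, rfl⟩

theorem orbit_odd (h : Data t ψ) : ¬ 2 ∣ {x : G | x ∈ h.E0 ∧ IsD t x}.ncard := by
  haveI : Fact (Nat.Prime 2) := ⟨Nat.prime_two⟩
  obtain ⟨S, -, hS⟩ := h.exists_sylow_N
  intro h2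
  rw [← h.index_orbit] at h2
  refine S.not_dvd_index (h2.trans (dvd_trans ?_ (Subgroup.index_dvd_of_le hS)))
  exact Dvd.intro _ (Subgroup.relIndex_mul_index (inf_le_right : h.C ⊓ h.N ≤ h.N))

/-- All involutions of the weak closure are conjugate to `t`. -/
theorem isD_all (h : Data t ψ) (a : A5') (ha : a * a = 1) (ha1 : a ≠ 1) :
    IsD t (ψ a) ∧ IsD t (t * ψ a) := by
  classical
  obtain ⟨f1, f2, f3, n1, n2, n3, f12, n12, n121, n122⟩ := v_facts
  by_contra hno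
  apply h.orbit_odd
  rcases h.isD_cases with hD | hD
  · have hno' : ∀ b, b * b = 1 → b ≠ 1 → ¬ IsD t (t * ψ b) := fun b hb hb1 hbd => by
      obtain ⟨c, hc⟩ := fuse_five b a hb ha hb1 ha1
      refine hno ⟨hD a ha ha1, ?_⟩
      have : t * ψ a = ψ c * (t * ψ b) * (ψ c)⁻¹ := by
        rw [← hc, map_mul, map_mul, map_inv, ← mul_assoc (ψ c) t, h.comm c]; group
      rw [this]; exact hbd.conj _
    have hset : {x : G | x ∈ h.E0 ∧ IsD t x} = ({t, ψ v1, ψ v2, ψ (v1 * v2)} : Finset G) := by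
      ext x
      simp only [Set.mem_setOf_eq, Finset.coe_insert, Finset.coe_singleton, Set.mem_insert_iff,
        Set.mem_singleton_iff]
      constructor
      · rintro ⟨⟨v, hv, e | e⟩, hd⟩
        · rcases hv with rfl | rfl | rfl | rfl
          · rw [map_one] at e
            obtain ⟨g, hg⟩ := hd
            rw [e] at hg
            exact absurd (conj_eq_one_iff.1 hg.symm) h.t_ne
          all_goals simp [e]
        · by_cases hv1 : v = 1
          · left; rw [e, hv1, map_one, mul_one]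
          · exact absurd (e ▸ hd) (hno' v (inV_sq v hv) hv1)
      · rintro (rfl | rfl | rfl | rfl)
        · exact ⟨h.t_mem_E0, isD_self _⟩
        · exact ⟨h.psi_mem_E0 (Or.inr (Or.inl rfl)), hD _ f1 n1⟩
        · exact ⟨h.psi_mem_E0 (Or.inr (Or.inr (Or.inl rfl))), hD _ f2 n2⟩
        · exact ⟨h.psi_mem_E0 (Or.inr (Or.inr (Or.inr rfl))), hD _ f12 n12⟩
    rw [hset, Set.ncard_coe_finset]
    simp [-map_mul, (h.sep _).symm, h.inj.eq_iff, n3, n121.symm, n122.symm]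
  · have hno' : ∀ b, b * b = 1 → b ≠ 1 → ¬ IsD t (ψ b) := fun b hb hb1 hbd => by
      obtain ⟨c, hc⟩ := fuse_five b a hb ha hb1 ha1
      refine hno ⟨?_, hD a ha ha1⟩
      rw [← hc, map_mul, map_mul, map_inv]; exact hbd.conj _
    have hset : {x : G | x ∈ h.E0 ∧ IsD t x} =
        ({t, t * ψ v1, t * ψ v2, t * ψ (v1 * v2)} : Finset G) := by
      ext x
      simp only [Set.mem_setOf_eq, Finset.coe_insert, Finset.coe_singleton, Set.mem_insert_iff,
        Set.mem_singleton_iff]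
      constructor
      · rintro ⟨⟨v, hv, e | e⟩, hd⟩
        · by_cases hv1 : v = 1
          · rw [e, hv1, map_one] at hd
            obtain ⟨g, hg⟩ := hd
            exact absurd (conj_eq_one_iff.1 hg.symm) h.t_ne
          · exact absurd (e ▸ hd) (hno' v (inV_sq v hv) hv1)
        · rcases hv with rfl | rfl | rfl | rfl
          · left; rw [e, map_one, mul_one]
          all_goals simp [e]
      · rintro (rfl | rfl | rfl | rfl)
        · exact ⟨h.t_mem_E0, isD_self _⟩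
        · exact ⟨⟨_, Or.inr (Or.inl rfl), Or.inr rfl⟩, hD _ f1 n1⟩
        · exact ⟨⟨_, Or.inr (Or.inr (Or.inl rfl)), Or.inr rfl⟩, hD _ f2 n2⟩
        · exact ⟨⟨_, Or.inr (Or.inr (Or.inr rfl)), Or.inr rfl⟩, hD _ f12 n12⟩
    rw [hset, Set.ncard_coe_finset]
    have hne1 : ∀ v, v ≠ 1 → t ≠ t * ψ v := fun v hv e => hv (h.inj (by
      rw [map_one]; exact (mul_eq_left.1 e.symm)))
    simp [-map_mul, h.inj.eq_iff, hne1 _ n1, hne1 _ n2, hne1 _ n12, n3, n121.symm, n122.symm]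

theorem isD_E0 (h : Data t ψ) {x : G} (hx : x ∈ h.E0) (hx1 : x ≠ 1) : IsD t x := by
  obtain ⟨v, hv, e⟩ := hx
  by_cases hv1 : v = 1
  · subst hv1
    rcases e with e | e <;> rw [map_one] at e
    · exact absurd e hx1
    · rw [e, mul_one]; exact isD_self t
  · rcases e with rfl | rfl
    exacts [(h.isD_all v (inV_sq v hv) hv1).1, (h.isD_all v (inV_sq v hv) hv1).2]

theorem orbit_seven (h : Data t ψ) : ((h.C ⊓ h.N).subgroupOf h.N).index = 7 := by
  rw [h.index_orbit]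
  have hset : {x : G | x ∈ h.E0 ∧ IsD t x} = (h.E0 : Set G) \ {1} := by
    ext x
    constructor
    · rintro ⟨hx, g, rfl⟩
      exact ⟨hx, fun e => h.t_ne (conj_eq_one_iff.1 e)⟩
    · rintro ⟨hx, hx1⟩
      exact ⟨hx, h.isD_E0 hx hx1⟩
  rw [hset, Set.ncard_diff (Set.singleton_subset_iff.2 (one_mem h.E0)), Set.ncard_singleton,
    ← Nat.card_coe_set_eq]
  show Nat.card h.E0 - 1 = 7
  rw [h.card_E0]

end Data

end Cfsg.Agent.WeakJ1
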