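import Cfsg.Agent.Lib.WeakJ1.Component
import Cfsg.Agent.Lib.CentAlt.Five
import Cfsg.Agent.S2039

/-!
The local Janko group and the product structure of its normaliser.
-/

set_option autoImplicit false
set_option linter.style.haveILetI false
set_option linter.unusedSectionVars false

namespace Cfsg.Agent.WeakJ1

open CentAlt
open scoped commutatorElement

universe u

variable {G : Type u} [Group G] [Finite G]

namespace Data

variable {t : G} {ψ : A5' →* G}

/-- The subgroup generated by the centraliser of `t` and the normaliser of `E0`. -/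
def H (h : Data t ψ) : Subgroup G := h.C ⊔ h.N

theorem C_le_H (h : Data t ψ) : h.C ≤ h.H := le_sup_left

theorem N_le_H (h : Data t ψ) : h.N ≤ h.H := le_sup_right

theorem H_le_normalizer (h : Data t ψ) : h.H ≤ Subgroup.normalizer (h.X : Set G) :=
  sup_le (fun _ hc => Subgroup.mem_normalizer_fintype (S := (h.X : Set G)) fun _ hx => h.X_conj_C hc hx)
    (fun _ hn => Subgroup.mem_normalizer_fintype (S := (h.X : Set G)) fun _ hx => h.X_conj_N hn hx)

theorem X_conj_H (h : Data t ψ) {g x : G} (hg : g ∈ h.H) (hx : x ∈ h.X) : g * x * g⁻¹ ∈ h.X :=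
  (Subgroup.mem_normalizer_iff.1 (h.H_le_normalizer hg) x).1 hx

theorem weak_le_H (h : Data t ψ) : weak t ≤ h.H := h.weak_le_C.trans h.C_le_H

theorem X_le_H (h : Data t ψ) : h.X ≤ h.H := h.X_le_M.trans (h.M_le_C.trans h.C_le_H)

/-- Every involution of the weak closure is conjugate to `t` in `H`. -/
theorem conj_weak_H (h : Data t ψ) {w : G} (hw : w ∈ weak t) (hw2 : w * w = 1) (hw1 : w ≠ 1) :
    ∃ g ∈ h.H, g * t * g⁻¹ = w := by
  obtain ⟨f1, -, -, n1, -⟩ := v_facts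
  obtain ⟨a, e | e⟩ := (h.mem w).1 hw
  · have ha : a * a = 1 := h.inj (by rw [map_mul, map_one, ← e, hw2])
    have ha1 : a ≠ 1 := fun ha1 => hw1 (by rw [e, ha1, map_one])
    obtain ⟨c, hc⟩ := fuse_five v1 a f1 ha n1 ha1
    obtain ⟨g, hg, hge⟩ := h.exists_move (h.isD_all v1 f1 n1).1 (h.psi_mem_E0 (Or.inr (Or.inl rfl)))
    refine ⟨ψ c * g, mul_mem (h.C_le_H (h.psi_mem_C c)) (h.N_le_H hg), ?_⟩
    rw [show ψ c * g * t * (ψ c * g)⁻¹ = ψ c * (g * t * g⁻¹) * (ψ c)⁻¹ by group, hge, e, ← hc, map_mul,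
      map_mul, map_inv]
  · by_cases ha1 : a = 1
    · exact ⟨1, one_mem _, by rw [e, ha1, map_one]; group⟩
    have ha : a * a = 1 := h.inj (by rw [map_one, ← h.tpsi_sq, ← e, hw2])
    obtain ⟨c, hc⟩ := fuse_five v1 a f1 ha n1 ha1
    obtain ⟨g, hg, hge⟩ := h.exists_move (h.isD_all v1 f1 n1).2
      (⟨v1, Or.inr (Or.inl rfl), Or.inr rfl⟩ : t * ψ v1 ∈ h.E0)
    refine ⟨ψ c * g, mul_mem (h.C_le_H (h.psi_mem_C c)) (h.N_le_H hg), ?_⟩
    rw [show ψ c * g * t * (ψ c * g)⁻¹ = ψ c * (g * t * g⁻¹) * (ψ c)⁻¹ by group, hge, e, ← hc, map_mul,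
      map_mul, map_inv, ← mul_assoc (ψ c) t, h.comm c]
    group

/-- The conjugates of `t` in `H` are conjugate in `H`. -/
theorem isD_H (h : Data t ψ) {x : G} (hx : x ∈ h.H) (hd : IsD t x) : ∃ g ∈ h.H, g * t * g⁻¹ = x := by
  haveI : Fact (Nat.Prime 2) := ⟨Nat.prime_two⟩
  obtain ⟨S, -, hS⟩ := h.exists_sylow_N
  have hSH : (S : Subgroup G) ≤ h.H := (hS.trans inf_le_left).trans h.C_le_H
  obtain ⟨k, hk⟩ := hd
  have hx2 : x * x = 1 := by
    rw [hk, show k * t * k⁻¹ * (k * t * k⁻¹) = k * (t * t) * k⁻¹ by group, h.t_sq]; group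
  obtain ⟨P, hP⟩ := (IsPGroup.of_card (n := 1) (by
    rw [Nat.card_zpowers, Subgroup.orderOf_mk, hk,
      show k * t * k⁻¹ = MulAut.conj k t from rfl, MulEquiv.orderOf_eq, h.ord, pow_one]) :
    IsPGroup 2 (Subgroup.zpowers (⟨x, hx⟩ : h.H))).exists_le_sylow
  obtain ⟨l, hl⟩ := MulAction.exists_smul_eq h.H P (S.subtype hSH)
  have h1 : l * ⟨x, hx⟩ * l⁻¹ ∈ ((S.subtype hSH : Sylow 2 h.H) : Subgroup h.H) := by
    rw [← hl]; exact ⟨_, hP (Subgroup.mem_zpowers _), rfl⟩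
  have h2 : (l : G) * x * (l : G)⁻¹ ∈ (S : Subgroup G) := h1
  have hW := mem_weak_of_isD (IsD.conj ⟨k, hk⟩ (l : G)) (h.mem_C.1 (hS h2).1)
  obtain ⟨g, hg, hge⟩ := h.conj_weak_H hW
    (by rw [show (l : G) * x * (l : G)⁻¹ * ((l : G) * x * (l : G)⁻¹) = (l : G) * (x * x) * (l : G)⁻¹ by group, hx2]
        group)
    (fun e => h.t_ne (conj_eq_one_iff.1 (hk ▸ conj_eq_one_iff.1 e)))
  refine ⟨(l : G)⁻¹ * g, mul_mem (inv_mem l.2) hg, ?_⟩
  rw [show (l : G)⁻¹ * g * t * ((l : G)⁻¹ * g)⁻¹ = (l : G)⁻¹ * (g * t * g⁻¹) * l by group, hge]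
  group

theorem mem_H_of_conj (h : Data t ψ) {g : G} (hg : g * t * g⁻¹ ∈ h.H) : g ∈ h.H := by
  obtain ⟨k, hk, hkg⟩ := h.isD_H hg ⟨g, rfl⟩
  have hc : k⁻¹ * g ∈ h.C := h.mem_C.2 (mul_inv_eq_iff_eq_mul.1 (by
    rw [show k⁻¹ * g * t * (k⁻¹ * g)⁻¹ = k⁻¹ * (g * t * g⁻¹) * k by group, ← hkg]; group))
  exact (h.H.mul_mem_cancel_left (inv_mem hk)).1 (h.C_le_H hc)

theorem centralizer_le_H (h : Data t ψ) {x c : G} (hx : x ∈ h.H) (hd : IsD t x) (hc : c * x = x * c) :
    c ∈ h.H := by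
  obtain ⟨k, hk, rfl⟩ := h.isD_H hx hd
  have hc' : k⁻¹ * c * k ∈ h.C := h.mem_C.2 (by
    calc k⁻¹ * c * k * t = k⁻¹ * (c * (k * t * k⁻¹)) * k := by group
      _ = t * (k⁻¹ * c * k) := by rw [hc]; group)
  have := mul_mem (mul_mem hk (h.C_le_H hc')) (inv_mem hk)
  simpa [mul_assoc] using this

/-- The subgroup generated by the conjugates of `t` in `H`. -/
def L (h : Data t ψ) : Subgroup G := Subgroup.closure {x | IsD t x ∧ x ∈ h.H}

theorem L_le_H (h : Data t ψ) : h.L ≤ h.H := (Subgroup.closure_le _).2 fun _ hx => hx.2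

theorem L_conj (h : Data t ψ) {g x : G} (hg : g ∈ h.H) (hx : x ∈ h.L) : g * x * g⁻¹ ∈ h.L := by
  induction hx using Subgroup.closure_induction with
  | mem y hy => exact Subgroup.subset_closure ⟨hy.1.conj g, mul_mem (mul_mem hg hy.2) (inv_mem hg)⟩
  | one => simp
  | mul y z _ _ hy hz => rw [← conj_mul]; exact mul_mem hy hz
  | inv y _ hy => rw [← conj_inv]; exact inv_mem hy

theorem L_comm_X (h : Data t ψ) {l x : G} (hl : l ∈ h.L) (hx : x ∈ h.X) : l * x = x * l := by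
  induction hl using Subgroup.closure_induction with
  | mem y hy =>
    obtain ⟨k, hk, rfl⟩ := h.isD_H hy.2 hy.1
    have e := (h.mem_K.1 (h.X_le_K (h.X_conj_H (inv_mem hk) hx))).1
    rw [inv_inv] at e
    calc k * t * k⁻¹ * x = k * (t * (k⁻¹ * x * k)) * k⁻¹ := by group
      _ = x * (k * t * k⁻¹) := by rw [← e]; group
  | one => simp
  | mul y z _ _ hy hz => rw [mul_assoc, hz, ← mul_assoc, hy, mul_assoc]
  | inv y _ hy => rw [inv_mul_eq_iff_eq_mul, ← mul_assoc, hy]; group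

theorem t_mem_L (h : Data t ψ) : t ∈ h.L := Subgroup.subset_closure ⟨isD_self t, h.C_le_H h.t_mem_C⟩

theorem psi_mem_L (h : Data t ψ) (a : A5') : ψ a ∈ h.L := by
  have : (⊤ : Subgroup A5') ≤ h.L.comap ψ := by
    rw [← closure_invol, Subgroup.closure_le]
    intro b (hb : b * b = 1)
    show ψ b ∈ h.L
    by_cases hb1 : b = 1
    · rw [hb1, map_one]; exact one_mem _
    · exact Subgroup.subset_closure ⟨(h.isD_all b hb hb1).1, h.C_le_H (h.psi_mem_C b)⟩
  exact this (Subgroup.mem_top a)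

theorem weak_le_L (h : Data t ψ) : weak t ≤ h.L := fun w hw => by
  obtain ⟨a, rfl | rfl⟩ := (h.mem w).1 hw
  exacts [h.psi_mem_L a, mul_mem h.t_mem_L (h.psi_mem_L a)]

theorem L_perfect (h : Data t ψ) : commutator h.L = ⊤ := by
  have hconj : ∀ g ∈ h.H, ∀ x ∈ ⁅h.L, h.L⁆, g * x * g⁻¹ ∈ ⁅h.L, h.L⁆ := by
    intro g hg x hx
    have he : h.L.map (MulAut.conj g).toMonoidHom ≤ h.L := by
      rintro _ ⟨y, hy, rfl⟩
      exact h.L_conj hg hy
    have : g * x * g⁻¹ ∈ (⁅h.L, h.L⁆).map (MulAut.conj g).toMonoidHom := ⟨x, hx, rfl⟩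
    rw [Subgroup.map_commutator] at this
    exact Subgroup.commutator_mono he he this
  obtain ⟨f1, -, -, n1, -⟩ := v_facts
  obtain ⟨a, b, hab⟩ := v1_commutator
  have hv : ψ v1 ∈ ⁅h.L, h.L⁆ := by
    rw [← hab, map_mul, map_mul, map_mul, map_inv, map_inv, ← commutatorElement_def]
    exact Subgroup.commutator_mem_commutator (h.psi_mem_L a) (h.psi_mem_L b)
  obtain ⟨g, hg, hge⟩ := h.exists_move (h.isD_all v1 f1 n1).1 (h.psi_mem_E0 (Or.inr (Or.inl rfl)))
  have ht : t ∈ ⁅h.L, h.L⁆ := by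
    have := hconj _ (inv_mem (h.N_le_H hg)) _ hv
    rwa [← hge, show g⁻¹ * (g * t * g⁻¹) * g⁻¹⁻¹ = t by group] at this
  have hle : h.L ≤ ⁅h.L, h.L⁆ := (Subgroup.closure_le _).2 fun x hx => by
    obtain ⟨k, hk, rfl⟩ := h.isD_H hx.2 hx.1
    exact hconj k hk t ht
  refine Subgroup.map_injective h.L.subtype_injective ?_
  rw [commutator_def, Subgroup.map_commutator, ← MonoidHom.range_eq_map, Subgroup.range_subtype]
  exact le_antisymm (Subgroup.commutator_le.2 fun a ha b hb =>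
    mul_mem (mul_mem (mul_mem ha hb) (inv_mem ha)) (inv_mem hb)) hle

theorem main_L (h : Data t ψ) :
    (∀ x ∈ h.L, x ∈ h.X → x = 1) ∧ Nonempty (h.L ≃* Cfsg.Spor.J1) ∧
      ∀ x ∈ h.L, x * x = 1 → x ≠ 1 → ∃ g ∈ h.L, g * x * g⁻¹ = t := by
  classical
  haveI : Fact (Nat.Prime 2) := ⟨Nat.prime_two⟩
  set Z := h.X.subgroupOf h.L with hZ
  haveI : Z.Normal := ⟨fun x hx l => h.X_conj_H (h.L_le_H l.2) hx⟩
  set q := QuotientGroup.mk' Z with hq
  set τ : h.L := ⟨t, h.t_mem_L⟩ with hτ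
  let ψ' : A5' →* h.L := ψ.codRestrict h.L h.psi_mem_L
  have hqψ : Function.Injective (q.comp ψ') := by
    rw [injective_iff_map_eq_one]
    intro a ha
    exact h.K_inf (h.X_le_K ((QuotientGroup.eq_one_iff (ψ' a)).1 ha))
  have hτ1 : q τ ≠ 1 := fun e => h.t_notMem_X ((QuotientGroup.eq_one_iff τ).1 e)
  have hτ2 : q τ * q τ = 1 := by rw [← map_mul, show τ * τ = 1 from Subtype.ext h.t_sq, map_one]
  have hcent : ∀ g : h.L, q g * q τ = q τ * q g → ∃ w ∈ weak t, ∃ z ∈ h.X, (g : G) = w * z ∧ z ∈ h.L := by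
    intro g hg
    rw [← mul_inv_eq_one, ← map_mul, ← map_mul, ← map_inv, ← map_mul] at hg
    have hy0' : g * τ * (τ * g)⁻¹ ∈ Z := (QuotientGroup.eq_one_iff _).1 hg
    have hy : (g : G) * t * (t * (g : G))⁻¹ ∈ h.X := hy0'
    have hy' : (g : G) * t * (g : G)⁻¹ * t ∈ h.X := by
      rwa [mul_inv_rev, h.t_inv, ← mul_assoc] at hy
    set y := (g : G) * t * (g : G)⁻¹ * t with hy0
    have hyt : y * t = t * y := (h.mem_K.1 (h.X_le_K hy')).1
    have hW : (g : G) * t * (g : G)⁻¹ ∈ weak t := by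
      refine mem_weak_of_isD ⟨(g : G), rfl⟩ ?_
      have e : (g : G) * t * (g : G)⁻¹ = y * t := by rw [hy0, mul_assoc _ t t, h.t_sq, mul_one]
      rw [e, ← mul_assoc t y t, ← hyt]
    have hy1 : y = 1 := h.weak_inf_X (mul_mem hW (mem_weak_of_isD (isD_self t) rfl)) hy'
    have hgC : (g : G) ∈ h.C := by
      refine h.mem_C.2 (mul_inv_eq_iff_eq_mul.1 ?_)
      rw [hy0, mul_eq_one_iff_eq_inv, h.t_inv] at hy1
      exact hy1
    obtain ⟨w, hw, z, hz, e⟩ := h.C_eq hgC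
    exact ⟨w, hw, z, hz, e, (h.L.mul_mem_cancel_left (h.weak_le_L hw)).1 (e ▸ g.2)⟩
  -- the Sylow subgroup
  obtain ⟨S, hE0S, hS⟩ := h.exists_sylow_N
  have hSH : (S : Subgroup G) ≤ h.H := (hS.trans inf_le_left).trans h.C_le_H
  let T := (q.comp ψ').range
  have hdata : CentAlt.Data (q τ) T 5 := by
    refine ⟨orderOf_eq_prime (by rw [pow_two]; exact hτ2) hτ1, ?_, ⟨(MonoidHom.ofInjective hqψ).symm⟩, ?_, ?_⟩
    · -- a Sylow 2-subgroup of `L` centralising `t`
      -- the intersection with a Sylow subgroup of `H` normalising `L`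
      let Hi := Subgroup.inclusion h.L_le_H
      let SL : Subgroup h.L := (S : Subgroup G).subgroupOf h.L
      have hSLp : IsPGroup 2 SL := S.isPGroup'.comap_subtype
      obtain ⟨Q⟩ : Nonempty (Sylow 2 h.L) := inferInstance
      obtain ⟨U, hU⟩ := ((Q.isPGroup').map Hi).exists_le_sylow
      obtain ⟨l, hl⟩ := MulAction.exists_smul_eq h.H U (S.subtype hSH)
      have hQS : Nat.card (Q : Subgroup h.L) ≤ Nat.card SL := by
        let f : ↥(Q : Subgroup h.L) → SL := fun x => ⟨⟨(l : G) * (x : h.L) * (l : G)⁻¹, h.L_conj l.2 (x : h.L).2⟩, by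
          have h1 : l * Hi x * l⁻¹ ∈ ((S.subtype hSH : Sylow 2 h.H) : Subgroup h.H) := by
            rw [← hl]; exact ⟨_, hU ⟨x, x.2, rfl⟩, rfl⟩
          exact h1⟩
        refine Nat.card_le_card_of_injective f fun a b e => ?_
        have e' : (l : G) * ((a : h.L) : G) * (l : G)⁻¹ = (l : G) * ((b : h.L) : G) * (l : G)⁻¹ :=
          congrArg (fun x : SL => ((x : h.L) : G)) e
        exact Subtype.ext (Subtype.ext (mul_left_cancel (mul_right_cancel e')))
      obtain ⟨Q', hQ'⟩ := hSLp.exists_le_sylow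
      have hQQ : (Q' : Subgroup h.L) = SL := (Subgroup.eq_of_le_of_card_ge hQ' (by
        rw [Sylow.card_eq_multiplicity Q', ← Sylow.card_eq_multiplicity Q]; exact hQS)).symm
      refine ⟨Q'.mapSurjective (QuotientGroup.mk'_surjective Z), ?_, ?_⟩
      · exact ⟨τ, by rw [SetLike.mem_coe, hQQ]; exact hE0S h.t_mem_E0, rfl⟩
      · rintro _ ⟨s, hs, rfl⟩
        rw [SetLike.mem_coe, hQQ] at hs
        rw [← map_mul, ← map_mul]
        exact congrArg q (Subtype.ext (h.mem_C.1 (hS hs).1))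
    · refine ⟨?_, ?_, ?_, ?_, ?_⟩
      · rw [Subgroup.zpowers_le]; exact Subgroup.mem_centralizer_singleton_iff.2 rfl
      · rintro _ ⟨a, rfl⟩
        rw [Subgroup.mem_centralizer_singleton_iff, MonoidHom.comp_apply, ← map_mul, ← map_mul]
        exact congrArg q (Subtype.ext (h.comm a))
      · rintro _ ha _ ⟨b, rfl⟩
        obtain ⟨k, rfl⟩ := Subgroup.mem_zpowers_iff.1 ha
        refine (Commute.zpow_left ?_ k).eq
        show q τ * q (ψ' b) = q (ψ' b) * q τ
        rw [← map_mul, ← map_mul]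
        exact congrArg q (Subtype.ext (h.comm b).symm)
      · rw [eq_bot_iff]
        rintro x ⟨hx, a, rfl⟩
        rw [Subgroup.mem_bot]
        by_contra hne
        have hd : Nat.card (Subgroup.zpowers (q τ)) = 2 := by
          rw [Nat.card_zpowers, orderOf_eq_prime (by rw [pow_two]; exact hτ2) hτ1]
        obtain ⟨k, hk⟩ := Subgroup.mem_zpowers_iff.1 hx
        have h2 : q τ ^ (2 : ℤ) = 1 := by rw [zpow_two]; exact hτ2
        rcases Int.even_or_odd k with ⟨j, rfl⟩ | ⟨j, rfl⟩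
        · rw [← two_mul, zpow_mul, h2, one_zpow] at hk
          exact hne hk.symm
        · rw [zpow_add, zpow_mul, h2, one_zpow, one_mul, zpow_one] at hk
          have e : ψ' a * τ⁻¹ ∈ Z := (QuotientGroup.eq_one_iff _).1
            (show q (ψ' a * τ⁻¹) = 1 by rw [map_mul, map_inv, hk]; exact mul_inv_cancel _)
          have e' : ψ a * t⁻¹ ∈ h.X := e
          have e2 : ψ a * t ∈ h.X := by rwa [h.t_inv] at e'
          have := h.weak_inf_X (mul_mem (h.psi_mem a) (mem_weak_of_isD (isD_self t) rfl)) e2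
          rw [mul_eq_one_iff_eq_inv, h.t_inv] at this
          exact h.sep a this
      · refine le_antisymm (sup_le ?_ ?_) fun g hg => ?_
        · rw [Subgroup.zpowers_le]; exact Subgroup.mem_centralizer_singleton_iff.2 rfl
        · rintro _ ⟨a, rfl⟩
          rw [Subgroup.mem_centralizer_singleton_iff, MonoidHom.comp_apply, ← map_mul, ← map_mul]
          exact congrArg q (Subtype.ext (h.comm a))
        obtain ⟨g, rfl⟩ := QuotientGroup.mk'_surjective Z g
        obtain ⟨w, hw, z, hz, e, hzL⟩ := hcent g (Subgroup.mem_centralizer_singleton_iff.1 hg)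
        have e' : g = ⟨w, h.weak_le_L hw⟩ * ⟨z, hzL⟩ := Subtype.ext e
        have hqz : q (⟨z, hzL⟩ : h.L) = 1 := (QuotientGroup.eq_one_iff _).2 hz
        show q g ∈ _
        rw [e', map_mul, hqz, mul_one]
        obtain ⟨a, ha | ha⟩ := (h.mem w).1 hw
        · exact Subgroup.mem_sup_right ⟨a, congrArg q (Subtype.ext ha.symm)⟩
        · rw [show (⟨w, h.weak_le_L hw⟩ : h.L) = τ * ψ' a from Subtype.ext ha, map_mul]
          exact Subgroup.mul_mem_sup (Subgroup.mem_zpowers _) ⟨a, rfl⟩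
    · intro N hN hN2
      haveI := hN
      haveI : Fact (Nat.Prime 2) := ⟨Nat.prime_two⟩
      have hq2 : Nat.card ((h.L ⧸ Z) ⧸ N) = 2 := by rw [← Subgroup.index_eq_card, hN2]
      haveI := isCyclic_of_prime_card hq2
      letI := IsCyclic.commGroup (α := (h.L ⧸ Z) ⧸ N)
      have hle := Abelianization.commutator_subset_ker (QuotientGroup.mk' N)
      rw [QuotientGroup.ker_mk'] at hle
      have htop : commutator (h.L ⧸ Z) = ⊤ := by
        rw [commutator_def, ← Subgroup.map_top_of_surjective q (QuotientGroup.mk'_surjective Z),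
          ← Subgroup.map_commutator, ← commutator_def, h.L_perfect]
      rw [htop, top_le_iff] at hle
      rw [hle, Subgroup.index_top] at hN2
      omega
  have hns : ¬ Group.IsSolvable (h.L ⧸ Z) := fun hs => by
    haveI := hs
    have hsol : Group.IsSolvable A5' := Group.isSolvable_of_isSolvable_injective (f := q.comp ψ') hqψ
    haveI := simple_five
    obtain ⟨a, b, -, -, -, -, hab⟩ := invol_not_comm
    exact hab (IsSimpleGroup.comm_iff_isSolvable.2 hsol a b)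
  obtain ⟨e⟩ := hdata.isoJ1 hns
  have hZc : Z ≤ Subgroup.center h.L := fun z hz => Subgroup.mem_center_iff.2 fun l =>
    Subtype.ext (h.L_comm_X l.2 hz)
  have hker : (e.toMonoidHom.comp q).ker = Z := by
    ext x
    rw [MonoidHom.mem_ker, MonoidHom.comp_apply, MulEquiv.coe_toMonoidHom, EmbeddingLike.map_eq_one_iff, hq,
      QuotientGroup.mk'_apply, QuotientGroup.eq_one_iff]
  have hZ1 : Z = ⊥ := by
    have := Schur.inf_commutator_eq_bot S2039.result (e.toMonoidHom.comp q)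
      (e.surjective.comp (QuotientGroup.mk'_surjective Z)) (by rwa [hker])
    rwa [hker, h.L_perfect, inf_top_eq] at this
  have hqi : Function.Injective q := by
    rw [← MonoidHom.ker_eq_bot_iff, hq, QuotientGroup.ker_mk', hZ1]
  refine ⟨fun x hxL hxX => ?_,
    ⟨(MulEquiv.ofBijective q ⟨hqi, QuotientGroup.mk'_surjective Z⟩).trans e⟩, fun x hxL hx2 hx1 => ?_⟩
  · have : (⟨x, hxL⟩ : h.L) ∈ Z := hxX
    rw [hZ1, Subgroup.mem_bot] at this
    exact congrArg Subtype.val this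
  · have hne : q (⟨x, hxL⟩ : h.L) ≠ 1 := fun e1 => hx1 (congrArg Subtype.val (hqi (e1.trans (map_one q).symm)))
    obtain ⟨g, hg⟩ := hdata.one_class
      (orderOf_eq_prime (by
        rw [pow_two, ← map_mul, show (⟨x, hxL⟩ : h.L) * ⟨x, hxL⟩ = 1 from Subtype.ext hx2, map_one]) hne)
      hdata.ord
    obtain ⟨g, rfl⟩ := QuotientGroup.mk'_surjective Z g
    rw [← map_inv, ← map_mul, ← map_mul] at hg
    exact ⟨g, g.2, congrArg Subtype.val (hqi hg)⟩

theorem L_inf_X (h : Data t ψ) {x : G} (hx : x ∈ h.L) (hX : x ∈ h.X) : x = 1 := h.main_L.1 x hx hX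

/-- `H = L X`. -/
theorem H_split (h : Data t ψ) {g : G} (hg : g ∈ h.H) : ∃ l ∈ h.L, ∃ x ∈ h.X, g = l * x := by
  let U : Subgroup G :=
    { carrier := {g | ∃ l ∈ h.L, ∃ x ∈ h.X, g = l * x}
      one_mem' := ⟨1, one_mem _, 1, one_mem _, (mul_one 1).symm⟩
      mul_mem' := by
        rintro _ _ ⟨l, hl, x, hx, rfl⟩ ⟨l', hl', x', hx', rfl⟩
        refine ⟨l * l', mul_mem hl hl', x * x', mul_mem hx hx', ?_⟩
        calc l * x * (l' * x') = l * (x * l') * x' := by group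
          _ = l * l' * (x * x') := by rw [← h.L_comm_X hl' hx]; group
      inv_mem' := by
        rintro _ ⟨l, hl, x, hx, rfl⟩
        exact ⟨l⁻¹, inv_mem hl, x⁻¹, inv_mem hx, by
          rw [mul_inv_rev, h.L_comm_X (inv_mem hl) (inv_mem hx)]⟩ }
  have hCU : h.C ≤ U := fun c hc => by
    obtain ⟨w, hw, x, hx, rfl⟩ := h.C_eq hc
    exact ⟨w, h.weak_le_L hw, x, hx, rfl⟩
  have hLU : h.L ≤ U := fun l hl => ⟨l, hl, 1, one_mem _, (mul_one l).symm⟩
  refine (sup_le hCU ?_ : h.H ≤ U) hg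
  intro n hn
  have hnt : n * t * n⁻¹ ∈ h.L :=
    Subgroup.subset_closure ⟨⟨n, rfl⟩, h.weak_le_H (h.E0_le_weak (h.mem_N.1 hn t h.t_mem_E0))⟩
  obtain ⟨l, hl, hle⟩ := h.main_L.2.2 _ hnt
    (by rw [show n * t * n⁻¹ * (n * t * n⁻¹) = n * (t * t) * n⁻¹ by group, h.t_sq]; group)
    (fun e => h.t_ne (conj_eq_one_iff.1 e))
  have hc : l * n ∈ h.C := h.mem_C.2 (mul_inv_eq_iff_eq_mul.1 (by
    rw [show l * n * t * (l * n)⁻¹ = l * (n * t * n⁻¹) * l⁻¹ by group, hle]))
  exact (U.mul_mem_cancel_left (hLU hl)).1 (hCU hc)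

end Data

end Cfsg.Agent.WeakJ1
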