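import Cfsg.Agent.Lib.WeakJ1.Four
import Mathlib.GroupTheory.Coset.Card

/-!
The centraliser of `t` is the product of the simple part and the kernel of the action on it.
-/

set_option autoImplicit false
set_option linter.style.haveILetI false
set_option linter.unusedSectionVars false

namespace Cfsg.Agent.WeakJ1

open CentAlt

variable {G : Type*} [Group G] [Finite G]

namespace Data

variable {t : G} {ψ : A5' →* G}

/-- The centraliser of `E0`. -/
def M (h : Data t ψ) : Subgroup G := Subgroup.centralizer (h.E0 : Set G)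

theorem mem_M (h : Data t ψ) {m : G} : m ∈ h.M ↔ ∀ x ∈ h.E0, m * x * m⁻¹ = x := by
  rw [M, Subgroup.mem_centralizer_iff]
  exact ⟨fun hh x hx => mul_inv_eq_iff_eq_mul.2 (hh x hx).symm,
    fun hh x hx => (mul_inv_eq_iff_eq_mul.1 (hh x hx)).symm⟩

theorem M_le_C (h : Data t ψ) : h.M ≤ h.C := fun m hm =>
  h.mem_C.2 (mul_inv_eq_iff_eq_mul.1 (h.mem_M.1 hm t h.t_mem_E0))

theorem M_le_N (h : Data t ψ) : h.M ≤ h.N := fun m hm => h.mem_N.2 fun x hx => by
  rw [h.mem_M.1 hm x hx]; exact hx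

/-- The kernel of the action on the simple part. -/
def K (h : Data t ψ) : Subgroup G := h.C ⊓ Subgroup.centralizer (Set.range ψ)

theorem mem_K (h : Data t ψ) {k : G} : k ∈ h.K ↔ k * t = t * k ∧ ∀ a, k * ψ a = ψ a * k := by
  rw [K, Subgroup.mem_inf, h.mem_C, Subgroup.mem_centralizer_iff]
  refine and_congr_right fun _ => ⟨fun hh a => (hh _ ⟨a, rfl⟩).symm, ?_⟩
  rintro hh _ ⟨a, rfl⟩
  exact (hh a).symm

theorem K_le_M (h : Data t ψ) : h.K ≤ h.M := fun k hk => h.mem_M.2 fun x hx => by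
  obtain ⟨v, -, rfl | rfl⟩ := hx
  · exact mul_inv_eq_iff_eq_mul.2 ((h.mem_K.1 hk).2 v)
  · rw [mul_inv_eq_iff_eq_mul, ← mul_assoc, (h.mem_K.1 hk).1, mul_assoc, (h.mem_K.1 hk).2, mul_assoc]

theorem act_V (h : Data t ψ) {c : G} (hc : c ∈ h.C ⊓ h.N) {v : A5'} (hv : InV v) :
    ∃ w, InV w ∧ (v ≠ 1 → w ≠ 1) ∧ c * ψ v * c⁻¹ = ψ w := by
  obtain ⟨b, hb⟩ := h.conj_psi hc.1 v
  refine ⟨b, ?_, fun hv1 hb1 => hv1 (h.inj ?_), hb⟩
  · obtain ⟨w, hw, e | e⟩ := h.mem_N.1 hc.2 _ (h.psi_mem_E0 hv) <;> rw [hb] at e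
    · exact h.inj e ▸ hw
    · exact absurd e.symm (h.t_psi_ne _ _)
  · rw [hb1, map_one, conj_eq_one_iff] at hb
    rw [hb, map_one]

theorem fix_two (h : Data t ψ) {c : G} (hc : c ∈ h.C) (e1 : c * ψ v1 * c⁻¹ = ψ v1)
    (e2 : c * ψ v2 * c⁻¹ = ψ v2) : c ∈ h.M := by
  have et : c * t * c⁻¹ = t := mul_inv_eq_iff_eq_mul.2 (h.mem_C.1 hc)
  have eV : ∀ v, InV v → c * ψ v * c⁻¹ = ψ v := by
    rintro v (rfl | rfl | rfl | rfl)
    · simp
    · exact e1
    · exact e2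
    · rw [map_mul, ← conj_mul, e1, e2]
  refine h.mem_M.2 fun x hx => ?_
  obtain ⟨v, hv, rfl | rfl⟩ := hx
  · exact eV v hv
  · rw [← conj_mul, et, eV v hv]

/-- An element of the stabiliser fixing a second point centralises `E0`. -/
theorem fix_one (h : Data t ψ) {s : G} (hs : s ∈ h.C ⊓ h.N) {v : A5'} (hv : InV v) (hv1 : v ≠ 1)
    (hfix : s * ψ v * s⁻¹ = ψ v) : s ∈ h.M := by
  classical
  haveI : Fact (Nat.Prime 7) := ⟨by norm_num⟩
  set MN := h.M.subgroupOf h.N with hMN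
  haveI : MN.Normal := Subgroup.normal_subgroupOf_centralizer_normalizer _
  -- the order of the quotient
  set NC := h.C ⊓ h.N with hNC
  have hMNC : h.M ≤ NC := le_inf h.M_le_C h.M_le_N
  have hmul : (NC.subgroupOf h.N).index * h.M.relIndex NC = MN.index := by
    show NC.relIndex h.N * h.M.relIndex NC = h.M.relIndex h.N
    rw [mul_comm, Subgroup.relIndex_mul_relIndex _ _ _ hMNC inf_le_right]
  set k := h.M.relIndex NC with hk
  have hk6 : k ≤ 6 := by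
    let V3 := {v : A5' // InV v ∧ v ≠ 1}
    let P := {p : V3 × V3 // p.1 ≠ p.2}
    obtain ⟨f1, f2, -, n1, n2, n3, -⟩ := v_facts
    have hex : ∀ c : NC, ∀ v : V3, ∃ w : V3, (c : G) * ψ v.1 * (c : G)⁻¹ = ψ w.1 := fun c v => by
      obtain ⟨w, hw, hw1, e⟩ := h.act_V c.2 v.2.1
      exact ⟨⟨w, hw, hw1 v.2.2⟩, e⟩
    choose σ hσ using hex
    let a1 : V3 := ⟨v1, Or.inr (Or.inl rfl), n1⟩
    let a2 : V3 := ⟨v2, Or.inr (Or.inr (Or.inl rfl)), n2⟩
    let f : NC ⧸ h.M.subgroupOf NC → P := fun q => ⟨(σ q.out a1, σ q.out a2), fun e => n3 (h.inj (by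
      have e1 := hσ q.out a1
      rw [show σ q.out a1 = σ q.out a2 from e, ← hσ q.out a2] at e1
      exact mul_left_cancel (mul_right_cancel e1)))⟩
    have hf : Function.Injective f := by
      intro p q e
      have e' := congrArg Subtype.val e
      have e1 : (p.out : G) * ψ v1 * (p.out : G)⁻¹ = (q.out : G) * ψ v1 * (q.out : G)⁻¹ := by
        rw [hσ p.out a1, hσ q.out a1, show σ p.out a1 = σ q.out a1 from congrArg Prod.fst e']
      have e2 : (p.out : G) * ψ v2 * (p.out : G)⁻¹ = (q.out : G) * ψ v2 * (q.out : G)⁻¹ := by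
        rw [hσ p.out a2, hσ q.out a2, show σ p.out a2 = σ q.out a2 from congrArg Prod.snd e']
      rw [← p.out_eq', ← q.out_eq', QuotientGroup.eq, Subgroup.mem_subgroupOf]
      push_cast
      refine h.fix_two (mul_mem (inv_mem p.out.2.1) q.out.2.1) ?_ ?_
      · rw [show (p.out : G)⁻¹ * q.out * ψ v1 * ((p.out : G)⁻¹ * q.out)⁻¹ =
          (p.out : G)⁻¹ * ((q.out : G) * ψ v1 * (q.out : G)⁻¹) * p.out by group, ← e1]
        group
      · rw [show (p.out : G)⁻¹ * q.out * ψ v2 * ((p.out : G)⁻¹ * q.out)⁻¹ =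
          (p.out : G)⁻¹ * ((q.out : G) * ψ v2 * (q.out : G)⁻¹) * p.out by group, ← e2]
        group
    have hP : Nat.card P = 6 := by
      rw [Nat.card_eq_fintype_card]
      decide +kernel
    calc k = Nat.card (NC ⧸ h.M.subgroupOf NC) := rfl
      _ ≤ Nat.card P := Nat.card_le_card_of_injective f hf
      _ = 6 := hP
  have hk0 : 0 < k := Nat.pos_of_ne_zero Subgroup.index_ne_zero_of_finite
  have hQ : Nat.card (h.N ⧸ MN) = 7 * k := by
    rw [← Subgroup.index_eq_card, ← hmul, h.orbit_seven]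
  -- the normal subgroup of order seven
  obtain ⟨P⟩ : Nonempty (Sylow 7 (h.N ⧸ MN)) := inferInstance
  obtain ⟨j, hj⟩ := IsPGroup.iff_card.1 P.isPGroup'
  have hPd : 7 ^ j ∣ 7 * k := hj ▸ hQ ▸ Subgroup.card_subgroup_dvd_card _
  have hPi := Subgroup.card_mul_index (P : Subgroup (h.N ⧸ MN))
  rw [hj, hQ] at hPi
  have hj1 : j = 1 := by
    have hnd := P.not_dvd_index
    rcases j with _ | _ | j
    · rw [pow_zero, one_mul] at hPi
      exact absurd (Dvd.intro k hPi.symm) hnd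
    · rfl
    · exfalso
      have : 7 * 7 ∣ 7 * k := (dvd_trans ⟨7 ^ j, by ring⟩ hPd)
      have := Nat.le_of_dvd hk0 ((Nat.mul_dvd_mul_iff_left (by norm_num : 0 < 7)).1 this)
      omega
  subst hj1
  rw [pow_one] at hj hPi
  have hidx : (P : Subgroup (h.N ⧸ MN)).index = k := Nat.eq_of_mul_eq_mul_left (by norm_num : 0 < 7) hPi
  haveI hPn : (P : Subgroup (h.N ⧸ MN)).Normal := by
    have h1 := card_sylow_modEq_one 7 (h.N ⧸ MN)
    have h2 : Nat.card (Sylow 7 (h.N ⧸ MN)) ∣ k := hidx ▸ P.card_dvd_index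
    have h3 := Nat.le_of_dvd hk0 h2
    have h4 : Nat.card (Sylow 7 (h.N ⧸ MN)) = 1 := by
      unfold Nat.ModEq at h1
      omega
    haveI := (Nat.card_eq_one_iff_unique.1 h4).1
    exact Sylow.normal_of_subsingleton P
  obtain ⟨⟨gq, hgP⟩, hgne⟩ : ∃ g : (P : Subgroup (h.N ⧸ MN)), g ≠ 1 := by
    haveI : Nontrivial (P : Subgroup (h.N ⧸ MN)) := Finite.one_lt_card_iff_nontrivial.1 (by omega)
    exact exists_ne 1
  have hg7 : orderOf gq = 7 := by
    have hd : orderOf gq ∣ 7 := hj ▸ Subgroup.orderOf_dvd_natCard _ hgP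
    rcases (Nat.dvd_prime (by norm_num)).1 hd with e | e
    · exact absurd (Subtype.ext (orderOf_eq_one_iff.1 e)) hgne
    · exact e
  have hgen : Subgroup.zpowers gq = (P : Subgroup (h.N ⧸ MN)) :=
    Subgroup.eq_of_le_of_card_ge (Subgroup.zpowers_le.2 hgP) (by rw [Nat.card_zpowers, hg7, hj])
  obtain ⟨g, rfl⟩ := QuotientGroup.mk'_surjective MN gq
  -- the action on the seven points depends only on the class modulo `M`
  let pt : h.N → G := fun n => (n : G) * t * (n : G)⁻¹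
  have hpt : ∀ a b : h.N, QuotientGroup.mk' MN a = QuotientGroup.mk' MN b → pt a = pt b := by
    intro a b e
    obtain ⟨z, hz, rfl⟩ := (QuotientGroup.mk'_eq_mk' MN).1 e
    show (a : G) * t * (a : G)⁻¹ = (a * z : h.N) * t * ((a * z : h.N) : G)⁻¹
    have := h.mem_M.1 hz t h.t_mem_E0
    rw [Subgroup.coe_subtype] at this
    push_cast
    rw [show (a : G) * z * t * ((a : G) * z)⁻¹ = (a : G) * ((z : G) * t * (z : G)⁻¹) * (a : G)⁻¹ by group, this]
  have hdet : ∀ i : ℕ, pt (g ^ i) = t → 7 ∣ i := by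
    intro i hi
    by_contra h7
    have hNCi : ((g ^ i : h.N) : G) ∈ NC := ⟨h.mem_C.2 (mul_inv_eq_iff_eq_mul.1 hi), (g ^ i).2⟩
    have hin : g ^ i ∈ NC.subgroupOf h.N := hNCi
    let R := (NC.subgroupOf h.N).map (QuotientGroup.mk' MN)
    have hR : Nat.card R ∣ k := by
      have hle : MN ≤ NC.subgroupOf h.N := fun x hx => hMNC hx
      have hRi : R.index = (NC.subgroupOf h.N).index := by
        rw [Subgroup.index_map_eq _ (QuotientGroup.mk'_surjective MN) (by rwa [QuotientGroup.ker_mk'])]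
      have := Subgroup.card_mul_index R
      rw [hRi, hQ, h.orbit_seven, mul_comm] at this
      exact (Nat.eq_of_mul_eq_mul_left (by norm_num : 0 < 7) this) ▸ dvd_rfl
    have ho : orderOf (QuotientGroup.mk' MN (g ^ i)) = 7 := by
      rw [map_pow, orderOf_pow, hg7, Nat.Coprime.gcd_eq_one ((Nat.Prime.coprime_iff_not_dvd (by norm_num)).2 h7),
        Nat.div_one]
    have := Nat.le_of_dvd hk0 ((ho ▸ Subgroup.orderOf_dvd_natCard R ⟨_, hin, rfl⟩).trans hR)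
    omega
  have hcov : ∀ x : G, x ∈ h.E0 → IsD t x → ∃ i : ℕ, pt (g ^ i) = x := by
    intro x hx hd
    let Ω := {x : G | x ∈ h.E0 ∧ IsD t x}
    let f : Fin 7 → Ω := fun i => ⟨pt (g ^ (i : ℕ)), h.mem_N.1 (g ^ (i : ℕ)).2 t h.t_mem_E0,
      ⟨((g ^ (i : ℕ) : h.N) : G), rfl⟩⟩
    have hf : Function.Injective f := by
      intro a b e
      wlog hab : (a : ℕ) ≤ b generalizing a b
      · exact (this e.symm (le_of_not_ge hab)).symm
      have e' : pt (g ^ (a : ℕ)) = pt (g ^ (b : ℕ)) := congrArg Subtype.val e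
      have h0 : pt (g ^ ((b : ℕ) - a)) = t := by
        obtain ⟨d, hd⟩ := Nat.exists_eq_add_of_le hab
        rw [hd, Nat.add_sub_cancel_left]
        rw [hd, pow_add] at e'
        simp only [pt, Subgroup.coe_mul, Subgroup.coe_pow] at e' ⊢
        calc (g : G) ^ d * t * ((g : G) ^ d)⁻¹
            = ((g : G) ^ (a : ℕ))⁻¹ * ((g : G) ^ (a : ℕ) * (g : G) ^ d * t * ((g : G) ^ (a : ℕ) * (g : G) ^ d)⁻¹) *
              (g : G) ^ (a : ℕ) := by group
          _ = t := by rw [← e']; group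
      have := hdet _ h0
      refine Fin.ext ?_
      have := a.2; have := b.2
      omega
    have hcard : Nat.card (Fin 7) = Nat.card Ω := by
      rw [Nat.card_fin, Nat.card_coe_set_eq, ← h.index_orbit, h.orbit_seven]
    obtain ⟨i, hi⟩ := (hf.bijective_of_nat_card_le hcard.ge).2 ⟨x, hx, hd⟩
    exact ⟨i, congrArg Subtype.val hi⟩
  -- conjugation by `s` on the normal subgroup of order seven
  set sN : h.N := ⟨s, hs.2⟩ with hsN
  have hsg : QuotientGroup.mk' MN (sN * g * sN⁻¹) ∈ Subgroup.zpowers (QuotientGroup.mk' MN g) := by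
    rw [map_mul, map_mul, map_inv, hgen]
    exact hPn.conj_mem _ hgP _
  obtain ⟨r, hr⟩ := (isOfFinOrder_of_finite _).mem_powers_iff_mem_zpowers.2 hsg
  have hr' : QuotientGroup.mk' MN g ^ r = QuotientGroup.mk' MN (sN * g * sN⁻¹) := hr
  have hst : s * t * s⁻¹ = t := mul_inv_eq_iff_eq_mul.2 (h.mem_C.1 hs.1)
  have hmove : ∀ i : ℕ, s * pt (g ^ i) * s⁻¹ = pt (g ^ (r * i)) := by
    intro i
    rw [← hpt (sN * g ^ i * sN⁻¹) (g ^ (r * i)) (by rw [← conj_pow, map_pow, ← hr', map_pow, pow_mul])]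
    show s * ((g ^ i : h.N) * t * ((g ^ i : h.N) : G)⁻¹) * s⁻¹ =
      ((sN * g ^ i * sN⁻¹ : h.N) : G) * t * ((sN * g ^ i * sN⁻¹ : h.N) : G)⁻¹
    push_cast
    calc s * ((g : G) ^ i * t * ((g : G) ^ i)⁻¹) * s⁻¹
        = s * ((g : G) ^ i * t * ((g : G) ^ i)⁻¹) * s⁻¹ := rfl
      _ = s * (g : G) ^ i * s⁻¹ * (s * t * s⁻¹) * (s * (g : G) ^ i * s⁻¹)⁻¹ := by group
      _ = _ := by rw [hst]
  obtain ⟨i, hi⟩ := hcov _ (h.psi_mem_E0 hv) (h.isD_all v (inV_sq v hv) hv1).1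
  have hi7 : ¬ 7 ∣ i := by
    rintro ⟨d, rfl⟩
    apply h.sep v
    rw [← hi, hpt (g ^ (7 * d)) 1 (by rw [map_pow, pow_mul, ← hg7, pow_orderOf_eq_one, one_pow, map_one])]
    simp [pt]
  have hr1 : r * i ≡ i [MOD 7] := by
    have e : pt (g ^ (r * i)) = pt (g ^ i) := by rw [← hmove i, hi, hfix]
    have hq : ∀ a b : ℕ, a ≤ b → pt (g ^ a) = pt (g ^ b) → a ≡ b [MOD 7] := by
      intro a b hab e'
      rw [Nat.modEq_iff_dvd' hab]
      refine hdet _ ?_
      obtain ⟨d, rfl⟩ := Nat.exists_eq_add_of_le hab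
      rw [Nat.add_sub_cancel_left]
      rw [pow_add] at e'
      simp only [pt, Subgroup.coe_mul, Subgroup.coe_pow] at e' ⊢
      calc (g : G) ^ d * t * ((g : G) ^ d)⁻¹
          = ((g : G) ^ a)⁻¹ * ((g : G) ^ a * (g : G) ^ d * t * ((g : G) ^ a * (g : G) ^ d)⁻¹) *
            (g : G) ^ a := by group
        _ = t := by rw [← e']; group
    rcases le_total (r * i) i with hle | hle
    · exact hq _ _ hle e
    · exact (hq _ _ hle e.symm).symm
  have hr7 : r ≡ 1 [MOD 7] := by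
    refine Nat.ModEq.cancel_right_of_coprime (c := i) ?_ (by rwa [one_mul])
    exact (Nat.Prime.coprime_iff_not_dvd (by norm_num)).2 hi7
  refine h.mem_M.2 fun x hx => ?_
  by_cases hx1 : x = 1
  · subst hx1; simp
  obtain ⟨l, rfl⟩ := hcov x hx (h.isD_E0 hx hx1)
  rw [hmove]
  refine hpt _ _ ?_
  rw [map_pow, map_pow, pow_eq_pow_iff_modEq, hg7]
  simpa using hr7.mul_right l

theorem stab_cases (h : Data t ψ) {c : G} (hc : c ∈ h.C ⊓ h.N) :
    c ∈ h.M ∨ ψ k3 * c ∈ h.M ∨ ψ k3⁻¹ * c ∈ h.M := by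
  obtain ⟨-, -, hI1, hI2, -, hJ1, hJ2⟩ := k3_facts
  have hk : ∀ a, (∀ v, InV v → InV (a * v * a⁻¹)) → ψ a ∈ h.C ⊓ h.N := fun a ha => by
    refine ⟨h.psi_mem_C a, h.mem_N.2 fun x hx => ?_⟩
    obtain ⟨v, hv, rfl | rfl⟩ := hx
    · exact ⟨_, ha v hv, Or.inl (by simp only [map_mul, map_inv])⟩
    · refine ⟨_, ha v hv, Or.inr ?_⟩
      rw [map_mul, map_mul, map_inv, ← mul_assoc (ψ a) t, h.comm a]; group
  have h1 : InV v1 := Or.inr (Or.inl rfl)
  obtain ⟨w, hw, hw1, e⟩ := h.act_V hc h1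
  obtain ⟨f1, -, -, n1, -⟩ := v_facts
  rcases k3_move w hw (hw1 n1) with rfl | rfl | rfl
  · exact Or.inl (h.fix_one hc h1 n1 e)
  · refine Or.inr (Or.inr ?_)
    have hm := hk k3⁻¹ (fun v hv => by simpa using (k3_cases v hv).2)
    refine h.fix_one (mul_mem hm hc) h1 n1 ?_
    rw [show ψ k3⁻¹ * c * ψ v1 * (ψ k3⁻¹ * c)⁻¹ = ψ k3⁻¹ * (c * ψ v1 * c⁻¹) * (ψ k3⁻¹)⁻¹ by group, e,
      ← map_inv, ← map_mul, ← map_mul]
    exact congrArg ψ (by group)
  · refine Or.inr (Or.inl ?_)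
    have hm := hk k3 (fun v hv => (k3_cases v hv).1)
    refine h.fix_one (mul_mem hm hc) h1 n1 ?_
    rw [show ψ k3 * c * ψ v1 * (ψ k3 * c)⁻¹ = ψ k3 * (c * ψ v1 * c⁻¹) * (ψ k3)⁻¹ by group, e,
      ← map_inv, ← map_mul, ← map_mul]
    exact congrArg ψ (by group)

/-- `C = T K`. -/
theorem C_split (h : Data t ψ) {c : G} (hc : c ∈ h.C) : ∃ a, ∃ k ∈ h.K, c = ψ a * k := by
  -- move `c` into the normaliser of `E0`
  let F : Subgroup G := h.E0.map (MulAut.conj c).toMonoidHom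
  have hF : ∀ x, x ∈ h.E0 → c * x * c⁻¹ ∈ F := fun x hx => ⟨x, hx, rfl⟩
  have hFW : F ≤ weak t := by
    rintro _ ⟨x, hx, rfl⟩
    exact h.conj_weak hc (h.E0_le_weak hx)
  obtain ⟨a, ha⟩ := h.conj_E0 hFW (by
    rw [Subgroup.card_map_of_injective (MulAut.conj c).injective, h.card_E0])
  have h1 : ψ a * c ∈ h.C ⊓ h.N := ⟨mul_mem (h.psi_mem_C a) hc, h.mem_N.2 fun x hx => by
    rw [show ψ a * c * x * (ψ a * c)⁻¹ = ψ a * (c * x * c⁻¹) * (ψ a)⁻¹ by group]
    exact (ha _).1 (hF x hx)⟩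
  have step : ∀ {m : G}, m ∈ h.M → ∃ b, ∃ k ∈ h.K, m = ψ b * k := by
    intro m hm
    have hmC := h.M_le_C hm
    choose σ hσ using h.conj_psi hmC
    have hσmul : ∀ x y, σ (x * y) = σ x * σ y := fun x y => h.inj (by
      rw [← hσ, map_mul, map_mul, ← hσ, ← hσ]; group)
    let σh : A5' →* A5' := MonoidHom.mk' σ hσmul
    have hinj : Function.Injective σh := fun x y e => h.inj (by
      have := hσ x
      rw [show σ x = σ y from e, ← hσ y] at this
      exact mul_left_cancel (mul_right_cancel this))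
    let σe : A5' ≃* A5' := MulEquiv.ofBijective σh (Finite.injective_iff_bijective.1 hinj)
    obtain ⟨f1, f2, -⟩ := v_facts
    obtain ⟨v, -, hv⟩ := aut_fix_V σe
      (h.inj ((hσ v1).symm.trans (h.mem_M.1 hm _ (h.psi_mem_E0 (Or.inr (Or.inl rfl))))))
      (h.inj ((hσ v2).symm.trans (h.mem_M.1 hm _ (h.psi_mem_E0 (Or.inr (Or.inr (Or.inl rfl)))))))
    refine ⟨v, (ψ v)⁻¹ * m, h.mem_K.2 ⟨h.mem_C.1 (mul_mem (inv_mem (h.psi_mem_C v)) hmC), fun x => ?_⟩, by group⟩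
    have hx : m * ψ x * m⁻¹ = ψ v * ψ x * (ψ v)⁻¹ := by
      rw [hσ x, show σ x = v * x * v⁻¹ from hv x, map_mul, map_mul, map_inv]
    calc (ψ v)⁻¹ * m * ψ x = (ψ v)⁻¹ * (m * ψ x * m⁻¹) * m := by group
      _ = ψ x * ((ψ v)⁻¹ * m) := by rw [hx]; group
  rcases h.stab_cases h1 with hm | hm | hm <;> obtain ⟨b, k, hk, e⟩ := step hm
  · exact ⟨a⁻¹ * b, k, hk, by rw [map_mul, map_inv, mul_assoc, ← e]; group⟩
  · exact ⟨a⁻¹ * (k3⁻¹ * b), k, hk, by rw [map_mul, map_mul, map_inv, map_inv, mul_assoc, mul_assoc, ← e]; group⟩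
  · exact ⟨a⁻¹ * (k3 * b), k, hk, by
      rw [map_mul, map_mul, map_inv, mul_assoc, mul_assoc, ← e, map_inv]; group⟩

/-- The centraliser of `E0` is `V K`. -/
theorem M_split (h : Data t ψ) {m : G} (hm : m ∈ h.M) : ∃ v, InV v ∧ ∃ k ∈ h.K, m = ψ v * k := by
  obtain ⟨a, k, hk, rfl⟩ := h.C_split (h.M_le_C hm)
  refine ⟨a, ?_, k, hk, rfl⟩
  rw [inV_iff]
  have key : ∀ v, InV v → a * v = v * a := fun v hv => h.inj (by
    have e := h.mem_M.1 hm _ (h.psi_mem_E0 hv)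
    have e2 : k * ψ v * k⁻¹ = ψ v := mul_inv_eq_iff_eq_mul.2 ((h.mem_K.1 hk).2 v)
    rw [show ψ a * k * ψ v * (ψ a * k)⁻¹ = ψ a * (k * ψ v * k⁻¹) * (ψ a)⁻¹ by group, e2,
      mul_inv_eq_iff_eq_mul] at e
    rw [map_mul, map_mul, e])
  exact ⟨key _ (Or.inr (Or.inl rfl)), key _ (Or.inr (Or.inr (Or.inl rfl)))⟩

theorem K_inf (h : Data t ψ) {a : A5'} (ha : ψ a ∈ h.K) : a = 1 := by
  haveI := simple_five
  have hz : a ∈ Subgroup.center A5' := Subgroup.mem_center_iff.2 fun b => h.inj (by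
    rw [map_mul, map_mul, (h.mem_K.1 ha).2 b])
  rcases (inferInstance : (Subgroup.center A5').Normal).eq_bot_or_eq_top with e | e
  · exact Subgroup.mem_bot.1 (e ▸ hz)
  · obtain ⟨x, y, -, -, -, -, hxy⟩ := invol_not_comm
    exact absurd (Subgroup.mem_center_iff.1 (e ▸ Subgroup.mem_top y) x) hxy

end Data

end Cfsg.Agent.WeakJ1
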