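import Cfsg.Agent.Lib.CentAlt.Facts
import Mathlib.GroupTheory.SpecificGroups.Cyclic

/-!
Finite facts about the alternating group of degree five and its Klein four subgroup `{1, v1, v2, v1 * v2}`.
-/

set_option autoImplicit false
set_option synthInstance.maxSize 2000
set_option synthInstance.maxHeartbeats 400000
set_option linter.style.haveILetI false

namespace Cfsg.Agent.WeakJ1

open Equiv CentAlt

/-- `(0 1)(2 3)` -/
def v1 : A5' := ⟨swap 0 1 * swap 2 3, Equiv.Perm.mem_alternatingGroup.2 (by decide +kernel)⟩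

/-- `(0 2)(1 3)` -/
def v2 : A5' := ⟨swap 0 2 * swap 1 3, Equiv.Perm.mem_alternatingGroup.2 (by decide +kernel)⟩

/-- A three-cycle permuting `v1`, `v2`, `v1 * v2` cyclically. -/
def k3 : A5' := ⟨swap 1 3 * swap 1 2, Equiv.Perm.mem_alternatingGroup.2 (by decide +kernel)⟩

/-- A three-cycle moving the point fixed by the four group. -/
def b3 : A5' := ⟨swap 2 4 * swap 2 3, Equiv.Perm.mem_alternatingGroup.2 (by decide +kernel)⟩

/-- Membership in the four group. -/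
def InV (v : A5') : Prop := v = 1 ∨ v = v1 ∨ v = v2 ∨ v = v1 * v2

instance (v : A5') : Decidable (InV v) := by unfold InV; infer_instance

theorem v_facts : v1 * v1 = 1 ∧ v2 * v2 = 1 ∧ v1 * v2 = v2 * v1 ∧ v1 ≠ 1 ∧ v2 ≠ 1 ∧ v1 ≠ v2 ∧
    v1 * v2 * (v1 * v2) = 1 ∧ v1 * v2 ≠ 1 ∧ v1 * v2 ≠ v1 ∧ v1 * v2 ≠ v2 := by decide +kernel

theorem inV_sq : ∀ v, InV v → v * v = 1 := by decide +kernel

theorem inV_mul : ∀ u v, InV u → InV v → InV (u * v) := by decide +kernel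

theorem inV_iff : ∀ v, InV v ↔ v * v1 = v1 * v ∧ v * v2 = v2 * v := by decide +kernel

theorem k3_facts : k3 * k3 * k3 = 1 ∧ k3 * v1 * k3⁻¹ ≠ v1 ∧ InV (k3 * v1 * k3⁻¹) ∧ InV (k3 * v2 * k3⁻¹) ∧
    k3 * v1 * k3⁻¹ ≠ 1 ∧ InV (k3⁻¹ * v1 * k3) ∧ InV (k3⁻¹ * v2 * k3) := by decide +kernel

theorem k3_fix : ∀ v, InV v → k3 * v * k3⁻¹ * v⁻¹ = 1 → v = 1 := by decide +kernel

theorem k3_move : ∀ v, InV v → v ≠ 1 → v = v1 ∨ v = k3 * v1 * k3⁻¹ ∨ v = k3⁻¹ * v1 * k3 := by decide +kernel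

theorem k3_cases : ∀ v, InV v → InV (k3 * v * k3⁻¹) ∧ InV (k3⁻¹ * v * k3) := by decide +kernel

theorem gen_V_b : ∃ x : A5', x ^ 5 = 1 ∧ x ≠ 1 ∧ x = v2 * b3 := by decide +kernel

theorem b3_facts : b3 ^ 3 = 1 ∧ b3 ≠ 1 := by decide +kernel

theorem b3_image : ∀ y : A5', y ^ 3 = 1 →
    ((v1 * y) ^ 2 = 1 ↔ (v1 * b3) ^ 2 = 1) → ((v1 * y) ^ 3 = 1 ↔ (v1 * b3) ^ 3 = 1) →
    ((v1 * y) ^ 5 = 1 ↔ (v1 * b3) ^ 5 = 1) →
    ((v2 * y) ^ 2 = 1 ↔ (v2 * b3) ^ 2 = 1) → ((v2 * y) ^ 3 = 1 ↔ (v2 * b3) ^ 3 = 1) →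
    ((v2 * y) ^ 5 = 1 ↔ (v2 * b3) ^ 5 = 1) →
    ((v1 * v2 * y) ^ 2 = 1 ↔ (v1 * v2 * b3) ^ 2 = 1) → ((v1 * v2 * y) ^ 3 = 1 ↔ (v1 * v2 * b3) ^ 3 = 1) →
    ((v1 * v2 * y) ^ 5 = 1 ↔ (v1 * v2 * b3) ^ 5 = 1) → y ≠ 1 →
    ∃ v, InV v ∧ v * b3 * v⁻¹ = y := by
  decide +kernel

theorem v1_commutator : ∃ a b : A5', a * b * a⁻¹ * b⁻¹ = v1 := by decide +kernel

theorem centralizer_comm : ∀ v a b : A5', v * v = 1 → v ≠ 1 → a * v = v * a → b * v = v * b →
    a * b = b * a := by decide +kernel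

theorem invol_not_comm : ∃ a b : A5', a * a = 1 ∧ b * b = 1 ∧ a ≠ 1 ∧ b ≠ 1 ∧ a * b ≠ b * a := by
  decide +kernel

theorem closure_invol : Subgroup.closure {a : A5' | a * a = 1} = ⊤ := by
  haveI := simple_five
  haveI : (Subgroup.closure {a : A5' | a * a = 1}).Normal := by
    refine ⟨fun x hx g => ?_⟩
    induction hx using Subgroup.closure_induction with
    | mem x h =>
      refine Subgroup.subset_closure ?_
      have h' : x * x = 1 := h
      show g * x * g⁻¹ * (g * x * g⁻¹) = 1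
      rw [show g * x * g⁻¹ * (g * x * g⁻¹) = g * (x * x) * g⁻¹ by group, h']
      group
    | one => simp
    | mul x y _ _ ha hb => rw [← conj_mul]; exact mul_mem ha hb
    | inv x _ h => rw [← conj_inv]; exact inv_mem h
  rcases Subgroup.Normal.eq_bot_or_eq_top
    (inferInstance : (Subgroup.closure {a : A5' | a * a = 1}).Normal) with e | e
  · exfalso
    have : v1 ∈ Subgroup.closure {a : A5' | a * a = 1} := Subgroup.subset_closure v_facts.1
    rw [e, Subgroup.mem_bot] at this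
    exact v_facts.2.2.2.1 this
  · exact e

/-- An automorphism fixing the four group pointwise is conjugation by an element of it. -/
theorem aut_fix_V (σ : A5' ≃* A5') (h1 : σ v1 = v1) (h2 : σ v2 = v2) :
    ∃ v, InV v ∧ ∀ x, σ x = v * x * v⁻¹ := by
  have key : ∀ (z : A5') (k : ℕ), σ z = z → ((z * σ b3) ^ k = 1 ↔ (z * b3) ^ k = 1) := by
    intro z k hz
    conv_lhs => rw [← hz, ← map_mul, ← map_pow, ← map_one σ, σ.injective.eq_iff]
  have h12 : σ (v1 * v2) = v1 * v2 := by rw [map_mul, h1, h2]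
  obtain ⟨v, hv, hb⟩ := b3_image (σ b3) (by rw [← map_pow, b3_facts.1, map_one])
    (key _ 2 h1) (key _ 3 h1) (key _ 5 h1) (key _ 2 h2) (key _ 3 h2) (key _ 5 h2)
    (key _ 2 h12) (key _ 3 h12) (key _ 5 h12)
    (fun e => b3_facts.2 (σ.injective (e.trans (map_one σ).symm)))
  refine ⟨v, hv, fun x => ?_⟩
  set L := MonoidHom.eqLocus σ.toMonoidHom (MulAut.conj v).toMonoidHom with hL
  have m1 : v1 ∈ L := by
    show σ v1 = v * v1 * v⁻¹
    rw [h1, ((inV_iff v).1 hv).1]; group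
  have m2 : v2 ∈ L := by
    show σ v2 = v * v2 * v⁻¹
    rw [h2, ((inV_iff v).1 hv).2]; group
  have m3 : b3 ∈ L := by
    show σ b3 = v * b3 * v⁻¹
    rw [hb]
  have hdvd : ∀ y ∈ L, orderOf y ∣ Nat.card L := fun y hy => Subgroup.orderOf_dvd_natCard L hy
  obtain ⟨y, hy5, hy1, hyb⟩ := gen_V_b
  have d5 : 5 ∣ Nat.card L := by
    have := hdvd y (hyb ▸ mul_mem m2 m3)
    rwa [orderOf_eq_prime (hp := ⟨Nat.prime_five⟩) hy5 hy1] at this
  have d3 : 3 ∣ Nat.card L := by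
    have := hdvd b3 m3
    rwa [orderOf_eq_prime (hp := ⟨Nat.prime_three⟩) b3_facts.1 b3_facts.2] at this
  have d4 : 4 ∣ Nat.card L := by
    let V : Subgroup A5' :=
      { carrier := {z | InV z}
        one_mem' := Or.inl rfl
        mul_mem' := fun ha hb => inV_mul _ _ ha hb
        inv_mem' := fun {a} ha => by
          show InV a⁻¹
          rw [inv_eq_of_mul_eq_one_right (inV_sq a ha)]
          exact ha }
    have hVL : V ≤ L := by
      rintro z (rfl | rfl | rfl | rfl)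
      exacts [one_mem L, m1, m2, mul_mem m1 m2]
    have hV : Nat.card V = 4 := by
      rw [show Nat.card V = Nat.card {z : A5' // InV z} from rfl, Nat.card_eq_fintype_card]
      decide +kernel
    exact hV ▸ Subgroup.card_dvd_of_le hVL
  have d60 : 60 ∣ Nat.card L :=
    (Nat.Coprime.mul_dvd_of_dvd_of_dvd (by norm_num : Nat.Coprime 20 3)
      (Nat.Coprime.mul_dvd_of_dvd_of_dvd (by norm_num : Nat.Coprime 4 5) d4 d5) d3)
  have : L = ⊤ := Subgroup.eq_top_of_card_eq L (le_antisymm (Nat.le_of_dvd Nat.card_pos (Subgroup.card_subgroup_dvd_card L))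
    (by rw [card_five]; exact Nat.le_of_dvd Nat.card_pos d60))
  exact (this ▸ Subgroup.mem_top x : x ∈ L)

end Cfsg.Agent.WeakJ1
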