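import Cfsg.Agent.Lib.WeakJ1.Janko
import Cfsg.Agent.Lib.BrauerSuzuki.ZStar
import Cfsg.Agent.Lib.Solvable.Coprime

/-!
The projection to the Janko group, and involutions of `H` with nontrivial projection: every conjugate of
`t` commuting with one lies in `H`.
-/

set_option autoImplicit false
set_option linter.style.haveILetI false
set_option linter.unusedSectionVars false

namespace Cfsg.Agent.WeakJ1

open CentAlt

universe u

variable {G : Type u} [Group G] [Finite G]

namespace Data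

variable {t : G} {ψ : A5' →* G}

/-- The projection of `H` to the Janko group. -/
noncomputable def pr (h : Data t ψ) : h.H →* h.L :=
  MonoidHom.mk' (fun g => ⟨(h.H_split g.2).choose, (h.H_split g.2).choose_spec.1⟩) (by
    intro a b
    obtain ⟨x, hx, ea⟩ := (h.H_split a.2).choose_spec.2
    obtain ⟨y, hy, eb⟩ := (h.H_split b.2).choose_spec.2
    obtain ⟨z, hz, eab⟩ := (h.H_split (a * b).2).choose_spec.2
    have la := (h.H_split a.2).choose_spec.1
    have lb := (h.H_split b.2).choose_spec.1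
    have lab := (h.H_split (a * b).2).choose_spec.1
    refine Subtype.ext ?_
    show (h.H_split (a * b).2).choose = (h.H_split a.2).choose * (h.H_split b.2).choose
    generalize (h.H_split (a * b).2).choose = r at *
    generalize (h.H_split a.2).choose = p at *
    generalize (h.H_split b.2).choose = q at *
    have e : r * z = p * q * (x * y) := by
      rw [← eab, Subgroup.coe_mul, ea, eb]
      calc p * x * (q * y) = p * (x * q) * y := by group
        _ = p * q * (x * y) := by rw [← h.L_comm_X lb hx]; group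
    have e2 : (p * q)⁻¹ * r = x * y * z⁻¹ := by
      calc (p * q)⁻¹ * r = (p * q)⁻¹ * (r * z) * z⁻¹ := by group
        _ = x * y * z⁻¹ := by rw [e]; group
    have := h.L_inf_X (mul_mem (inv_mem (mul_mem la lb)) lab) (e2 ▸ mul_mem (mul_mem hx hy) (inv_mem hz))
    exact (inv_mul_eq_one.1 this).symm)

theorem pr_spec (h : Data t ψ) (g : h.H) : ∃ x ∈ h.X, (g : G) = (h.pr g : G) * x :=
  (h.H_split g.2).choose_spec.2

theorem pr_eq (h : Data t ψ) {g : h.H} {l x : G} (hl : l ∈ h.L) (hx : x ∈ h.X) (e : (g : G) = l * x) :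
    (h.pr g : G) = l := by
  obtain ⟨y, hy, e'⟩ := h.pr_spec g
  have e2 : l⁻¹ * (h.pr g : G) = x * y⁻¹ := by
    rw [e] at e'
    calc l⁻¹ * (h.pr g : G) = l⁻¹ * ((h.pr g : G) * y) * y⁻¹ := by group
      _ = x * y⁻¹ := by rw [← e']; group
  have := h.L_inf_X (mul_mem (inv_mem hl) (h.pr g).2) (e2 ▸ mul_mem hx (inv_mem hy))
  exact (inv_mul_eq_one.1 this).symm

theorem pr_eq_one (h : Data t ψ) (g : h.H) : h.pr g = 1 ↔ (g : G) ∈ h.X := by
  constructor
  · intro e
    obtain ⟨x, hx, hgx⟩ := h.pr_spec g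
    rw [e, Subgroup.coe_one, one_mul] at hgx
    rwa [hgx]
  · intro hg
    exact Subtype.ext (h.pr_eq (one_mem _) hg (one_mul _).symm)

theorem exists_conj_L (h : Data t ψ) {w : G} (hw : w ∈ h.L) (hw2 : w * w = 1) (hw1 : w ≠ 1) :
    ∃ k ∈ h.L, w = k * t * k⁻¹ := by
  obtain ⟨g, hg, e⟩ := h.main_L.2.2 w hw hw2 hw1
  exact ⟨g⁻¹, inv_mem hg, by rw [← e]; group⟩

theorem weak_comm (h : Data t ψ) {c : A5'} {i z : G} (hi : i = ψ c ∨ i = t * ψ c) {d : A5'}
    (hz : z = ψ d ∨ z = t * ψ d) (hcomm : z * i = i * z) : d * c = c * d := by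
  apply h.inj
  rw [map_mul, map_mul]
  have ct : ∀ a, t * ψ a = ψ a * t := fun a => (h.comm a).symm
  rcases hi with rfl | rfl <;> rcases hz with rfl | rfl
  · exact hcomm
  · rw [mul_assoc, ← mul_assoc (ψ c) t, ← ct, mul_assoc] at hcomm
    exact mul_left_cancel hcomm
  · rw [← mul_assoc, ← ct, mul_assoc, mul_assoc] at hcomm
    exact mul_left_cancel hcomm
  · have e1 : t * ψ d * (t * ψ c) = ψ d * ψ c := by
      rw [ct d, mul_assoc, ← mul_assoc t t, h.t_sq, one_mul]
    have e2 : t * ψ c * (t * ψ d) = ψ c * ψ d := by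
      rw [ct c, mul_assoc, ← mul_assoc t t, h.t_sq, one_mul]
    rwa [e1, e2] at hcomm

/-- A conjugate of `t` commuting with an element of `H` projecting onto an involution lies in `H`. -/
theorem escape_invol (h : Data t ψ) {u : G} (hu : u ∈ h.H) (hw2 : h.pr ⟨u, hu⟩ * h.pr ⟨u, hu⟩ = 1)
    (hw1 : h.pr ⟨u, hu⟩ ≠ 1) {e : G} (he : IsD t e) (heu : e * u = u * e) : e ∈ h.H := by
  classical
  haveI : Fact (Nat.Prime 2) := ⟨Nat.prime_two⟩
  obtain ⟨x, hx, hux⟩ := h.pr_spec ⟨u, hu⟩
  set w : G := (h.pr ⟨u, hu⟩ : G) with hw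
  have hwL : w ∈ h.L := (h.pr ⟨u, hu⟩).2
  have hww : w * w = 1 := congrArg Subtype.val hw2
  have hwne : w ≠ 1 := fun e => hw1 (Subtype.ext e)
  have hux' : u = w * x := hux
  obtain ⟨k, hk, hkw⟩ := h.exists_conj_L hwL hww hwne
  have hkH := h.L_le_H hk
  have hwD : IsD t w := ⟨k, hkw⟩
  -- the centraliser of `u`
  set V := Subgroup.centralizer ({u} : Set G) with hV
  have hcomm_u : ∀ {l : G}, l ∈ h.L → l * w = w * l → l ∈ V := by
    intro l hl hlw
    rw [hV, Subgroup.mem_centralizer_singleton_iff, hux', ← mul_assoc, hlw, mul_assoc, h.L_comm_X hl hx, mul_assoc]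
  have hwV : w ∈ V := hcomm_u hwL rfl
  have hiso : Cfsg.IsIsolated (⟨w, hwV⟩ : V) := by
    intro g hg
    have hg' : w * ((g : G) * w * (g : G)⁻¹) = (g : G) * w * (g : G)⁻¹ * w := congrArg Subtype.val hg.eq
    refine Subtype.ext ?_
    show (g : G) * w * (g : G)⁻¹ = w
    set w' := (g : G) * w * (g : G)⁻¹ with hw'
    by_contra hne
    have hw'D : IsD t w' := hwD.conj _
    have hw'H : w' ∈ h.H := h.centralizer_le_H (h.L_le_H hwL) hwD hg'.symm
    have hi : k⁻¹ * w' * k ∈ weak t := by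
      refine mem_weak_of_isD (by simpa using hw'D.conj k⁻¹) ?_
      calc k⁻¹ * w' * k * t = k⁻¹ * (w' * w) * k := by rw [hkw]; group
        _ = k⁻¹ * (w * w') * k := by rw [hg']
        _ = t * (k⁻¹ * w' * k) := by rw [hkw]; group
    obtain ⟨c, hc⟩ := (h.mem _).1 hi
    have hi2 : k⁻¹ * w' * k * (k⁻¹ * w' * k) = 1 := by
      rw [show k⁻¹ * w' * k * (k⁻¹ * w' * k) = k⁻¹ * (w' * w') * k by group, hw',
        show (g : G) * w * (g : G)⁻¹ * ((g : G) * w * (g : G)⁻¹) = (g : G) * (w * w) * (g : G)⁻¹ by group, hww]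
      group
    have hc2 : c * c = 1 := h.inj (by
      rw [map_one, ← hi2]
      rcases hc with e | e <;> rw [e]
      · rw [map_mul]
      · rw [h.tpsi_sq])
    have hc1 : c ≠ 1 := by
      rintro rfl
      rcases hc with e | e <;> rw [map_one] at e
      · have : w' = 1 := by
          calc w' = k * (k⁻¹ * w' * k) * k⁻¹ := by group
            _ = 1 := by rw [e]; group
        exact hwne (conj_eq_one_iff.1 this)
      · rw [mul_one] at e
        exact hne (by
          calc w' = k * (k⁻¹ * w' * k) * k⁻¹ := by group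
            _ = w := by rw [e, hkw])
    -- images of the involutions centralising `w`
    have himg : ∀ b : A5', b * b = 1 → b ≠ 1 →
        ∃ d, (k⁻¹ * ((g : G) * (k * ψ b * k⁻¹) * (g : G)⁻¹) * k = ψ d ∨
          k⁻¹ * ((g : G) * (k * ψ b * k⁻¹) * (g : G)⁻¹) * k = t * ψ d) ∧ d * c = c * d := by
      intro b hb hb1
      set a := k * ψ b * k⁻¹ with ha
      have haw : a * w = w * a := by
        rw [ha, hkw]
        calc k * ψ b * k⁻¹ * (k * t * k⁻¹) = k * (ψ b * t) * k⁻¹ := by group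
          _ = _ := by rw [h.comm b]; group
      set f := (g : G) * a * (g : G)⁻¹ with hf
      have haD : IsD t a := (h.isD_all b hb hb1).1.conj k
      have hfD : IsD t f := haD.conj _
      have hfw' : f * w' = w' * f := by
        rw [hf, hw', conj_mul, haw, ← conj_mul]
      have hfH : f ∈ h.H := h.centralizer_le_H hw'H hw'D hfw'
      have hfL : f ∈ h.L := Subgroup.subset_closure ⟨hfD, hfH⟩
      have hfu : f * u = u * f := by
        have haV : a ∈ V := hcomm_u (mul_mem (mul_mem hk (h.psi_mem_L b)) (inv_mem hk)) haw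
        exact Subgroup.mem_centralizer_singleton_iff.1 (mul_mem (mul_mem g.2 haV) (inv_mem g.2))
      have hfw : f * w = w * f := by
        rw [hux', ← mul_assoc, mul_assoc w x, ← h.L_comm_X hfL hx, ← mul_assoc] at hfu
        exact mul_right_cancel hfu
      have hz : k⁻¹ * f * k ∈ weak t := by
        refine mem_weak_of_isD (by simpa using hfD.conj k⁻¹) ?_
        calc k⁻¹ * f * k * t = k⁻¹ * (f * w) * k := by rw [hkw]; group
          _ = k⁻¹ * (w * f) * k := by rw [hfw]
          _ = t * (k⁻¹ * f * k) := by rw [hkw]; group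
      obtain ⟨d, hd⟩ := (h.mem _).1 hz
      refine ⟨d, hd, h.weak_comm hc hd ?_⟩
      calc k⁻¹ * f * k * (k⁻¹ * w' * k) = k⁻¹ * (f * w') * k := by group
        _ = k⁻¹ * w' * k * (k⁻¹ * f * k) := by rw [hfw']; group
    obtain ⟨b, b', hb, hb', hb1, hb1', hbb⟩ := invol_not_comm
    obtain ⟨d, hd, hdc⟩ := himg b hb hb1
    obtain ⟨d', hd', hdc'⟩ := himg b' hb' hb1'
    have hdd := centralizer_comm c d d' hc2 hc1 hdc hdc'
    have hww' : ∀ {p p' : G}, (p = ψ d ∨ p = t * ψ d) → (p' = ψ d' ∨ p' = t * ψ d') → p * p' = p' * p := by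
      have ct : ∀ a, t * ψ a = ψ a * t := fun a => (h.comm a).symm
      have c1 : Commute t (ψ d) := ct d
      have c2 : Commute t (ψ d') := ct d'
      have c3 : Commute (ψ d) (ψ d') := by
        show ψ d * ψ d' = ψ d' * ψ d
        rw [← map_mul, hdd, map_mul]
      rintro p p' (rfl | rfl) (rfl | rfl)
      · exact c3
      · exact (c1.symm.mul_right c3).eq
      · exact (c2.mul_left c3).eq
      · exact (((Commute.refl t).mul_right c2).mul_left (c1.symm.mul_right c3)).eq
    have e1 := hww' hd hd'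
    apply hbb
    apply h.inj
    rw [map_mul, map_mul]
    set G1 := k⁻¹ * (g : G) * k with hG1
    have e2 : G1 * (ψ b * ψ b') * G1⁻¹ = G1 * (ψ b' * ψ b) * G1⁻¹ := by
      calc G1 * (ψ b * ψ b') * G1⁻¹ = k⁻¹ * ((g : G) * (k * ψ b * k⁻¹) * (g : G)⁻¹) * k *
            (k⁻¹ * ((g : G) * (k * ψ b' * k⁻¹) * (g : G)⁻¹) * k) := by rw [hG1]; group
        _ = k⁻¹ * ((g : G) * (k * ψ b' * k⁻¹) * (g : G)⁻¹) * k *
            (k⁻¹ * ((g : G) * (k * ψ b * k⁻¹) * (g : G)⁻¹) * k) := e1
        _ = _ := by rw [hG1]; group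
    exact mul_left_cancel (mul_right_cancel e2)
  have hw2' : orderOf (⟨w, hwV⟩ : V) = 2 := orderOf_eq_prime (by rw [pow_two]; exact Subtype.ext hww)
    (fun e => hwne (congrArg Subtype.val e))
  have hz := BrauerSuzuki.zStar V _ hw2' hiso
  -- the odd core of the centraliser of `u` lies in `H`
  set O := (Cfsg.pPrimeCore 2 V).map V.subtype with hO
  set A := h.E0.map (MulAut.conj k).toMonoidHom with hA
  have hAV : A ≤ V := by
    rintro _ ⟨y, hy, rfl⟩
    show k * y * k⁻¹ ∈ V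
    refine hcomm_u (mul_mem (mul_mem hk (h.weak_le_L (h.E0_le_weak hy))) (inv_mem hk)) ?_
    rw [hkw, conj_mul, h.E0_comm hy h.t_mem_E0, ← conj_mul]
  haveI : IsMulCommutative A := ⟨⟨by
    rintro ⟨_, y, hy, rfl⟩ ⟨_, z, hz, rfl⟩
    refine Subtype.ext ?_
    show k * y * k⁻¹ * (k * z * k⁻¹) = k * z * k⁻¹ * (k * y * k⁻¹)
    rw [conj_mul, h.E0_comm hy hz, ← conj_mul]⟩⟩
  have hA8 : Nat.card A = 8 := by
    rw [hA, Subgroup.card_map_of_injective (MulAut.conj k).injective, h.card_E0]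
  have hAnc : ¬ IsCyclic A := fun hc => by
    obtain ⟨⟨a, y, hy, rfl⟩, ha⟩ := IsCyclic.exists_ofOrder_eq_natCard (α := A)
    rw [hA8] at ha
    replace ha : orderOf (k * y * k⁻¹) = 8 := (Subgroup.orderOf_coe _).trans ha
    have h2 : orderOf (k * y * k⁻¹) ∣ 2 := orderOf_dvd_of_pow_eq_one (by
      rw [pow_two, conj_mul, h.E0_sq hy]; group)
    rw [ha] at h2
    norm_num at h2
  haveI : (Cfsg.pPrimeCore 2 V).Normal := FittingCores.pPrimeCore_normal 2
  have hAO : A ≤ Subgroup.normalizer (O : Set G) := by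
    intro a ha
    refine Subgroup.mem_normalizer_fintype (S := (O : Set G)) fun y hy => ?_
    obtain ⟨z, hz, rfl⟩ := hy
    exact ⟨⟨a, hAV ha⟩ * z * ⟨a, hAV ha⟩⁻¹, Subgroup.Normal.conj_mem inferInstance z hz _, rfl⟩
  have hcop : (Nat.card A).Coprime (Nat.card O) := by
    rw [hA8, hO, Subgroup.card_map_of_injective V.subtype_injective, show 8 = 2 ^ 3 by norm_num]
    exact Nat.Coprime.pow_left 3 (FittingCores.pPrimeCore_coprime (G := V) 2).symm
  have hOH : O ≤ h.H := by
    rw [← CoprimeAct.generated_by_centralizers hAnc hAO hcop]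
    refine iSup₂_le ?_
    rintro a ⟨⟨y, hy, rfl⟩, hy1⟩ c hc
    have hy1' : y ≠ 1 := fun e => hy1 (by rw [e, map_one])
    have hcc : c * (k * y * k⁻¹) = k * y * k⁻¹ * c := Subgroup.mem_centralizer_singleton_iff.1 hc.2
    exact h.centralizer_le_H (mul_mem (mul_mem hkH (h.weak_le_H (h.E0_le_weak hy))) (inv_mem hkH))
      ((h.isD_E0 hy hy1').conj k) hcc
  have heV : e ∈ V := Subgroup.mem_centralizer_singleton_iff.2 heu
  have h3 : e * w * e⁻¹ * w⁻¹ ∈ h.H := hOH ⟨_, hz ⟨e, heV⟩, rfl⟩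
  have hwH := h.L_le_H hwL
  have h4 : e * k * t * (e * k)⁻¹ ∈ h.H := by
    have := mul_mem h3 hwH
    rwa [inv_mul_cancel_right, hkw, show e * (k * t * k⁻¹) * e⁻¹ = e * k * t * (e * k)⁻¹ by group] at this
  exact (h.H.mul_mem_cancel_right hkH).1 (h.mem_H_of_conj h4)

end Data

end Cfsg.Agent.WeakJ1
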