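import Cfsg.Agent.Lib.WeakJ1.Model
import Cfsg.Prelude.Def_Sporadic
import Mathlib.GroupTheory.Sylow

/-!
An involution central in a Sylow 2-subgroup whose weak closure in its centraliser is `Z₂ × A₅`:
the weak closure and the conjugates inside it.
-/

set_option autoImplicit false
set_option linter.style.haveILetI false
set_option linter.unusedSectionVars false

namespace Cfsg.Agent.WeakJ1

open CentAlt

variable {G : Type*} [Group G]

/-- Being conjugate to `t`. -/
def IsD (t x : G) : Prop := ∃ g : G, x = g * t * g⁻¹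

/-- The weak closure of `t` in its centraliser. -/
def weak (t : G) : Subgroup G :=
  Subgroup.closure {x : G | ∃ g : G, x = g * t * g⁻¹ ∧ x * t = t * x}

/-- The data. -/
structure Data (t : G) (ψ : A5' →* G) : Prop where
  ord : orderOf t = 2
  odd : ∃ S : Sylow 2 G, t ∈ (S : Subgroup G) ∧ ∀ s ∈ (S : Subgroup G), s * t = t * s
  inj : Function.Injective ψ
  comm : ∀ a, ψ a * t = t * ψ a
  mem : ∀ x, x ∈ weak t ↔ ∃ a, x = ψ a ∨ x = t * ψ a
  sep : ∀ a, ψ a ≠ t

theorem isD_self (t : G) : IsD t t := ⟨1, by simp⟩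

theorem IsD.conj {t x : G} (h : IsD t x) (g : G) : IsD t (g * x * g⁻¹) := by
  obtain ⟨k, rfl⟩ := h
  exact ⟨g * k, by group⟩

theorem isD_conj_iff {t x : G} (g : G) : IsD t (g * x * g⁻¹) ↔ IsD t x :=
  ⟨fun h => by simpa [mul_assoc] using h.conj g⁻¹, fun h => h.conj g⟩

theorem mem_weak_of_isD {t x : G} (h : IsD t x) (hc : x * t = t * x) : x ∈ weak t := by
  obtain ⟨g, rfl⟩ := h
  exact Subgroup.subset_closure ⟨g, rfl, hc⟩

theorem two_group_eq : ∀ a : Multiplicative (ZMod 2), a = 1 ∨ a = Multiplicative.ofAdd 1 := by decide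

theorem exists_data (t : G) (ht : orderOf t = 2) (S : Sylow 2 G) (htS : t ∈ (S : Subgroup G))
    (htc : ∀ s ∈ (S : Subgroup G), s * t = t * s)
    (e : weak t ≃* Multiplicative (ZMod 2) × A5') : ∃ ψ : A5' →* G, Data t ψ := by
  let ψ : A5' →* G := ((weak t).subtype.comp e.symm.toMonoidHom).comp (MonoidHom.inr _ _)
  have hψ : ∀ a, ψ a = (e.symm (1, a) : G) := fun _ => rfl
  have hcent : ∀ x ∈ weak t, x * t = t * x := by
    intro x hx
    induction hx using Subgroup.closure_induction with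
    | mem y h => obtain ⟨g, -, h⟩ := h; exact h
    | one => simp
    | mul y z _ _ hy hz => rw [mul_assoc, hz, ← mul_assoc, hy, mul_assoc]
    | inv y _ hy => rw [inv_mul_eq_iff_eq_mul, ← mul_assoc, hy]; group
  have htW : t ∈ weak t := mem_weak_of_isD (isD_self t) rfl
  have het : e ⟨t, htW⟩ = (Multiplicative.ofAdd 1, 1) := by
    have hne : e ⟨t, htW⟩ ≠ 1 := by
      rw [ne_eq, EmbeddingLike.map_eq_one_iff]
      intro h
      rw [show t = 1 from congrArg Subtype.val h, orderOf_one] at ht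
      omega
    have hc : (e ⟨t, htW⟩).2 ∈ Subgroup.center A5' := by
      rw [Subgroup.mem_center_iff]
      intro a
      have h := congrArg Prod.snd (congrArg e (show (e.symm (1, a)) * ⟨t, htW⟩ = ⟨t, htW⟩ * e.symm (1, a) from
        Subtype.ext (hcent _ (e.symm (1, a)).2)))
      simp only [map_mul, e.apply_symm_apply, Prod.snd_mul] at h
      exact h
    have hz : Subgroup.center A5' = ⊥ := by
      haveI := simple_five
      rcases (inferInstance : (Subgroup.center A5').Normal).eq_bot_or_eq_top with h | h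
      · exact h
      · obtain ⟨a, b, -, -, -, -, hab⟩ := invol_not_comm
        exact absurd (Subgroup.mem_center_iff.1 (h ▸ Subgroup.mem_top b) a) hab
    rw [hz, Subgroup.mem_bot] at hc
    rcases two_group_eq (e ⟨t, htW⟩).1 with h1 | h1
    · exact absurd (Prod.ext h1 hc) hne
    · exact Prod.ext h1 hc
  refine ⟨ψ, ⟨ht, ⟨S, htS, htc⟩, ?_, fun a => hcent _ (e.symm (1, a)).2, fun x => ⟨fun hx => ?_, ?_⟩, fun a h => ?_⟩⟩
  · intro a b h
    rw [hψ, hψ] at h
    exact congrArg Prod.snd (e.symm.injective (Subtype.ext h))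
  · refine ⟨(e ⟨x, hx⟩).2, ?_⟩
    rcases two_group_eq (e ⟨x, hx⟩).1 with h1 | h1
    · left
      have h2 : (⟨x, hx⟩ : weak t) = e.symm (1, (e ⟨x, hx⟩).2) := by
        rw [← h1, e.symm_apply_apply]
      exact congrArg Subtype.val h2
    · right
      have h2 : (⟨x, hx⟩ : weak t) = ⟨t, htW⟩ * e.symm (1, (e ⟨x, hx⟩).2) := by
        apply e.injective
        rw [map_mul, e.apply_symm_apply, het]
        ext <;> simp [h1]
      exact congrArg Subtype.val h2
  · rintro ⟨a, rfl | rfl⟩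
    · exact (e.symm (1, a)).2
    · exact mul_mem htW (e.symm (1, a)).2
  · have h2 : e.symm (1, a) = ⟨t, htW⟩ := Subtype.ext h
    rw [← e.symm_apply_apply ⟨t, htW⟩, het] at h2
    have := congrArg Prod.fst (e.symm.injective h2)
    exact absurd (show (1 : Multiplicative (ZMod 2)) = Multiplicative.ofAdd 1 from this) (by decide)

namespace Data

variable {t : G} {ψ : A5' →* G}

/-- The centraliser of `t`. -/
abbrev C (_h : Data t ψ) : Subgroup G := Subgroup.centralizer ({t} : Set G)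

theorem t_sq (h : Data t ψ) : t * t = 1 := by rw [← pow_two, ← h.ord, pow_orderOf_eq_one]

theorem t_inv (h : Data t ψ) : t⁻¹ = t := inv_eq_of_mul_eq_one_right h.t_sq

theorem t_ne (h : Data t ψ) : t ≠ 1 := fun e => by
  have := h.ord
  rw [e, orderOf_one] at this
  omega

theorem mem_C {c : G} (h : Data t ψ) : c ∈ h.C ↔ c * t = t * c := Subgroup.mem_centralizer_singleton_iff

theorem t_mem_C (h : Data t ψ) : t ∈ h.C := h.mem_C.2 rfl

theorem psi_mem_C (h : Data t ψ) (a : A5') : ψ a ∈ h.C := h.mem_C.2 (h.comm a)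

theorem weak_le_C (h : Data t ψ) : weak t ≤ h.C := fun x hx => by
  obtain ⟨a, rfl | rfl⟩ := (h.mem x).1 hx
  exacts [h.psi_mem_C a, mul_mem h.t_mem_C (h.psi_mem_C a)]

theorem psi_mem (h : Data t ψ) (a : A5') : ψ a ∈ weak t := (h.mem _).2 ⟨a, Or.inl rfl⟩

theorem tpsi_mem (h : Data t ψ) (a : A5') : t * ψ a ∈ weak t := (h.mem _).2 ⟨a, Or.inr rfl⟩

theorem t_psi_ne (h : Data t ψ) (a b : A5') : t * ψ a ≠ ψ b := fun e => h.sep (b * a⁻¹) (by
  rw [map_mul, map_inv, ← e]; group)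

theorem tpsi_inj (h : Data t ψ) {a b : A5'} (e : t * ψ a = t * ψ b) : a = b :=
  h.inj (mul_left_cancel e)

theorem tpsi_sq (h : Data t ψ) (a : A5') : t * ψ a * (t * ψ a) = ψ (a * a) := by
  rw [map_mul, mul_assoc t (ψ a), ← mul_assoc (ψ a) t, h.comm a, mul_assoc t (ψ a), ← mul_assoc t t, h.t_sq,
    one_mul]

theorem conj_weak (h : Data t ψ) {c x : G} (hc : c ∈ h.C) (hx : x ∈ weak t) : c * x * c⁻¹ ∈ weak t := by
  induction hx using Subgroup.closure_induction with
  | mem y hy =>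
    obtain ⟨g, rfl, hy⟩ := hy
    refine mem_weak_of_isD (IsD.conj ⟨g, rfl⟩ c) ?_
    have hct := h.mem_C.1 hc
    have hct' : c⁻¹ * t = t * c⁻¹ := h.mem_C.1 (inv_mem hc)
    calc c * (g * t * g⁻¹) * c⁻¹ * t = c * (g * t * g⁻¹) * (c⁻¹ * t) := by group
      _ = c * ((g * t * g⁻¹) * t) * c⁻¹ := by rw [hct']; group
      _ = c * t * (g * t * g⁻¹) * c⁻¹ := by rw [hy]; group
      _ = t * (c * (g * t * g⁻¹) * c⁻¹) := by rw [hct]; group
  | one => simp
  | mul y z _ _ hy hz => rw [← conj_mul]; exact mul_mem hy hz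
  | inv y _ hy => rw [← conj_inv]; exact inv_mem hy

/-- The centraliser normalises the simple part. -/
theorem conj_psi (h : Data t ψ) {c : G} (hc : c ∈ h.C) (a : A5') : ∃ b, c * ψ a * c⁻¹ = ψ b := by
  let K : Subgroup A5' :=
    { carrier := {a | ∃ b, c * ψ a * c⁻¹ = ψ b}
      one_mem' := ⟨1, by simp⟩
      mul_mem' := by
        rintro a a' ⟨b, hb⟩ ⟨b', hb'⟩
        exact ⟨b * b', by rw [map_mul, map_mul, ← conj_mul, hb, hb']⟩
      inv_mem' := by
        rintro a ⟨b, hb⟩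
        exact ⟨b⁻¹, by rw [map_inv, map_inv, ← conj_inv, hb]⟩ }
  have htwo : ∀ a a', a ∉ K → a' ∉ K → a * a' ∈ K := by
    intro a a' ha ha'
    obtain ⟨b, hb | hb⟩ := (h.mem _).1 (h.conj_weak hc (h.psi_mem a))
    · exact absurd ⟨b, hb⟩ ha
    obtain ⟨b', hb' | hb'⟩ := (h.mem _).1 (h.conj_weak hc (h.psi_mem a'))
    · exact absurd ⟨b', hb'⟩ ha'
    refine ⟨b * b', ?_⟩
    rw [map_mul, map_mul, ← conj_mul, hb, hb', mul_assoc t (ψ b), ← mul_assoc (ψ b) t, h.comm b,
      mul_assoc t (ψ b), ← mul_assoc t t, h.t_sq, one_mul]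
  -- a subgroup of index at most two of a simple group
  haveI := simple_five
  haveI : K.Normal := by
    refine ⟨fun x hx g => ?_⟩
    by_cases hg : g ∈ K
    · exact mul_mem (mul_mem hg hx) (inv_mem hg)
    · have hg' : g⁻¹ ∉ K := fun e => hg (inv_inv g ▸ inv_mem e)
      refine htwo _ _ (fun e => hg ?_) hg'
      exact (K.mul_mem_cancel_right hx).1 e
  rcases Subgroup.Normal.eq_bot_or_eq_top (inferInstance : K.Normal) with e | e
  · exfalso
    obtain ⟨f1, f2, -, n1, n2, n3, -⟩ := v_facts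
    have h1 : v1 ∉ K := fun hh => n1 (Subgroup.mem_bot.1 (e ▸ hh))
    have h2 : v2 ∉ K := fun hh => n2 (Subgroup.mem_bot.1 (e ▸ hh))
    have := Subgroup.mem_bot.1 (e ▸ htwo _ _ h1 h2)
    exact n3 (mul_left_injective v2 (by show v1 * v2 = v2 * v2; rw [this, f2]))
  · exact (e ▸ Subgroup.mem_top a : a ∈ K)

/-- `A₅` has a conjugate of `t` either on its involutions or on their translates by `t`. -/
theorem isD_cases (h : Data t ψ) :
    (∀ a, a * a = 1 → a ≠ 1 → IsD t (ψ a)) ∨ (∀ a, a * a = 1 → a ≠ 1 → IsD t (t * ψ a)) := by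
  have hex : ∃ a, a * a = 1 ∧ a ≠ 1 ∧ (IsD t (ψ a) ∨ IsD t (t * ψ a)) := by
    by_contra hno
    have hle : weak t ≤ Subgroup.zpowers t := by
      refine (Subgroup.closure_le _).2 ?_
      rintro x ⟨g, hxg, hxt⟩
      have hD : IsD t x := ⟨g, hxg⟩
      have hx2 : x * x = 1 := by
        rw [hxg, show g * t * g⁻¹ * (g * t * g⁻¹) = g * (t * t) * g⁻¹ by group, h.t_sq]; group
      have hx1 : x ≠ 1 := by
        rw [hxg, ne_eq, conj_eq_one_iff]; exact h.t_ne
      obtain ⟨a, e | e⟩ := (h.mem x).1 (mem_weak_of_isD hD hxt)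
      · refine absurd ⟨a, h.inj ?_, ?_, Or.inl (e ▸ hD)⟩ hno
        · rw [map_mul, map_one, ← e, hx2]
        · rintro rfl; exact hx1 (by rw [e, map_one])
      · by_cases ha : a = 1
        · rw [e, ha, map_one, mul_one]; exact Subgroup.mem_zpowers t
        · refine absurd ⟨a, h.inj ?_, ha, Or.inr (e ▸ hD)⟩ hno
          rw [← h.tpsi_sq, ← e, hx2, map_one]
    have hv := hle (h.psi_mem v1)
    rw [Subgroup.mem_zpowers_iff] at hv
    obtain ⟨k, hk⟩ := hv
    have h2 : t ^ (2 : ℤ) = 1 := by rw [zpow_two]; exact h.t_sq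
    rcases Int.even_or_odd k with ⟨j, rfl⟩ | ⟨j, rfl⟩
    · rw [← two_mul, zpow_mul, h2, one_zpow] at hk
      exact v_facts.2.2.2.1 (h.inj (by rw [map_one]; exact hk.symm))
    · rw [zpow_add, zpow_mul, h2, one_zpow, one_mul, zpow_one] at hk
      exact h.sep v1 hk.symm
  obtain ⟨a, ha2, ha1, hd | hd⟩ := hex
  · left
    intro b hb hb1
    obtain ⟨c, hc⟩ := fuse_five a b ha2 hb ha1 hb1
    rw [← hc, map_mul, map_mul, map_inv]
    exact hd.conj _
  · right
    intro b hb hb1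
    obtain ⟨c, hc⟩ := fuse_five a b ha2 hb ha1 hb1
    have : t * ψ b = ψ c * (t * ψ a) * (ψ c)⁻¹ := by
      rw [← hc, map_mul, map_mul, map_inv, ← mul_assoc (ψ c) t, h.comm c]; group
    rw [this]
    exact hd.conj _

end Data

end Cfsg.Agent.WeakJ1
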